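import Mathlib
import Cfsg.Agent.Lib.CGT2.Cfg
import Cfsg.Agent.Lib.CGT2.Four
import Cfsg.Agent.Lib.Sect.E8
import Cfsg.Agent.Lib.Sect.MacW
import Cfsg.Agent.Lib.ExtraTwo.Coord

/-!
Package SR4: two sectional rank lemmas (see `plans/CGT3.md`).
-/

set_option autoImplicit false
set_option linter.unusedSectionVars false

namespace CfsgLib.CGT2

open Subgroup Cfsg CfsgLib.LAE CfsgLib.PLocal CfsgLib.Push CfsgLib.BHS CfsgLib.ZJ CfsgLib.SL2
  CfsgLib.Blocks CfsgLib.LocStr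
open scoped commutatorElement

variable {G : Type*} [Group G] [Finite G]

namespace SrP

open CfsgLib.Sect

theorem sr_of_syl {S : Subgroup G} (hS : IsSylowIn 2 S ⊤) (h : SR 16 (⊤ : Subgroup S)) :
    SectionalPRankLE 2 4 G := by
  obtain ⟨P, rfl⟩ := hS.exists_sylow_top
  have := h.map (P : Subgroup G).subtype
  rw [← MonoidHom.range_eq_map, range_subtype] at this
  exact sr_top_iff.2 (sr_of_sylow P this)

theorem card_sub {S A : Subgroup G} (h : A ≤ S) : Nat.card (A.subgroupOf S) = Nat.card A :=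
  Nat.card_congr (subgroupOfEquivOfLe h).toEquiv

theorem self (hG : IsPGroup 2 G) {A : Subgroup G} (h2 : ∀ a ∈ A, a * a = 1) (h8 : Nat.card A ≤ 8)
    (hc : centralizer (A : Set G) ≤ A) : SR 16 (⊤ : Subgroup G) := by
  by_cases e8 : Nat.card A = 8
  · exact harada hG h2 e8 hc
  have h4 : Nat.card A ≤ 2 ^ 2 := card_le_pow (hG.to_subgroup A) 2 (by omega)
  by_cases e4 : Nat.card A = 4
  · exact (mcp_of_self hG e4 hc).1.le (by omega)
  have h1 : Nat.card A ≤ 2 ^ 1 := card_le_pow (hG.to_subgroup A) 1 (by omega)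
  refine (SR.of_card _).le ?_
  by_contra hn
  obtain ⟨z, -, z1, -, zc⟩ := exists_central hG (⊤ : Subgroup G) (by omega)
  have zA : z ∈ A := hc (mem_cent'.2 fun v _ => zc v)
  have : (⊤ : Subgroup G) ≤ A := fun g _ => hc (mem_cent'.2 fun v hv => by
    rcases two_cases h1 zA z1 hv with rfl | rfl
    · simp
    · exact (zc g).symm)
  have := card_le_of_le this
  omega

theorem extra (hG : IsPGroup 2 G) {R : Subgroup G} [hR : R.Normal] {z : G} (h32 : Nat.card R = 32)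
    (hz : z ∈ R) (z1 : z ≠ 1) (z2 : z * z = 1) (zc : ∀ g, g * z = z * g)
    (hsq : ∀ r ∈ R, r * r ∈ zpowers z) (hc : centralizer (R : Set G) ≤ zpowers z) :
    SR 16 (⊤ : Subgroup G) := by
  have hz' : ∀ N : Subgroup G, N.Normal → N ≤ R → 1 < Nat.card N → z ∈ N := fun N _ hN h => by
    obtain ⟨y, hy, y1, -, yc⟩ := exists_central hG N h
    rcases (mem_zpowers_two z2).1 (hc (mem_cent'.2 fun v _ => yc v)) with e | e
    · exact absurd e y1
    · exact e ▸ hy
  by_cases hV : ∃ V : Subgroup G, V.Normal ∧ V ≤ R ∧ (∀ v ∈ V, v * v = 1) ∧ Nat.card V = 8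
  · obtain ⟨V, hn, hle, h2, h8⟩ := hV
    exact k2 hG h2 h8 (hz' V hn hle (by omega)) z1 zc hle h32 hsq hc
  refine macw hG fun A hA h2 => ?_
  have h4 : Nat.card (A ⊓ R : Subgroup G) ≤ 2 ^ 2 := by
    refine card_le_pow (hG.to_subgroup _) 2 ?_
    by_contra hn
    obtain ⟨U, hU, hn', h8⟩ := exists_norm_card (S := ⊤) (M := A ⊓ R) (hG.to_subgroup _) le_top
      (fun g _ x hx => (inferInstance : (A ⊓ R).Normal).conj_mem x hx g) (k := 3) (by omega)
    exact hV ⟨U, ⟨fun x hx g => hn' g (mem_top g) x hx⟩, hU.trans inf_le_right,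
      fun v hv => h2 v (hU hv).1, h8⟩
  have := normal_zpowers' zc
  have es : ExtraTwo.ES R z := by
    refine ⟨z1, z2, hz, fun x _ => zc x, fun x _ h => (mem_zpowers_two z2).1 (hc (mem_cent'.2 h)),
      fun x hx y hy => ?_, ?_⟩
    · rcases (mem_zpowers_two z2).1 (comm_mem hsq hx hy) with e | e
      · exact Or.inl (by simpa [mul_inv_eq_iff_eq_mul] using e)
      · exact Or.inr (by rw [← e]; group)
    · by_contra! hn
      have : R ≤ zpowers z := fun x hx => hc (mem_cent'.2 fun v hv => hn v hv x hx)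
      have := card_le_of_le this
      rw [card_zpowers_two z2 z1] at this
      omega
  have hle : A ≤ R := fun a ha => by
    have cm : ∀ r ∈ R, r * a * r⁻¹ * a⁻¹ ∈ A ⊓ R := fun r hr => mem_inf.2
      ⟨mul_mem (hA.conj_mem a ha r) (inv_mem ha), by
        have := mul_mem hr (hR.conj_mem _ (inv_mem hr) a)
        simpa only [mul_assoc] using this⟩
    have key : ∀ r ∈ R, r * a * r⁻¹ * a⁻¹ ∈ zpowers z := by
      rcases le_or_le (A := R) (B := cmod (zpowers z) a) (C := centralizer ((A ⊓ R : Subgroup G) : Set G))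
        (fun r hr => by
          by_cases hv : r * a * r⁻¹ * a⁻¹ ∈ zpowers z
          · exact Or.inl (mem_cmod.2 hv)
          right
          rw [mem_zpowers_two z2, not_or] at hv
          have hm := cm r hr
          have zm := hz' (A ⊓ R) inferInstance inf_le_right (two_le_card hm hv.1)
          have v2 := h2 _ hm.1
          have e : r * a * r⁻¹ * a⁻¹ * r = r * (r * a * r⁻¹ * a⁻¹) := by
            have e1 : r * r * a = a * (r * r) := by
              rcases (mem_zpowers_two z2).1 (hsq r hr) with e | e <;> rw [e]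
              · simp
              · exact (zc a).symm
            have e2 : (r * a * r⁻¹ * a⁻¹)⁻¹ = r * a * r⁻¹ * a⁻¹ := inv_eq_of_mul_eq_one_right v2
            calc _ = (r * a * r⁻¹ * a⁻¹)⁻¹ * r := by rw [e2]
              _ = a * (r * r) * r⁻¹ * a⁻¹ := by group
              _ = _ := by rw [← e1]; group
          refine mem_cent'.2 fun v hv' => ?_
          rcases four_cases h4 zm hm z2 z1 hv.1 hv.2 hv' with rfl | rfl | rfl | rfl
          · simp
          · exact (zc r).symm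
          · exact e
          · rw [mul_assoc, e, ← mul_assoc, ← zc r, mul_assoc]) with h | h
      · exact fun r hr => mem_cmod.1 (h hr)
      · exact fun r hr => hc (mem_cent'.2 fun v hv => (mem_cent'.1 (h hv) _ (cm r hr)).symm)
    refine es.mem_of_conj (hc.trans (zpowers_le.2 hz)) fun x hx => ?_
    rcases (mem_zpowers_two z2).1 (comm_symm (key x hx)) with e | e
    · exact Or.inl (mul_inv_eq_one.1 e)
    · exact Or.inr (by rw [zc, ← e]; group)
  rwa [inf_of_le_left hle] at h4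

/-- The abstract shape of the Sylow subgroup in the case `q = 4`. -/
structure Sh (B A A' D K : Subgroup G) : Prop where
  pg : IsPGroup 2 G
  hD : A ⊓ A' = D
  AB : A ≤ B
  A'B : A' ≤ B
  BK : B ≤ K
  cD : Nat.card D = 4
  iA : A.relIndex B = 4
  iA' : A'.relIndex B = 4
  iD : D.relIndex A = 4
  iB : B.index ≤ 4
  cm : ∀ a ∈ A, ∀ b ∈ B, a * b = b * a → a ∈ A' ∨ b ∈ A
  cm' : ∀ a ∈ A', ∀ b ∈ B, a * b = b * a → a ∈ A ∨ b ∈ A'
  sq : ∀ b ∈ B, b * b ∈ D
  el : ∀ X ≤ B, (∀ x ∈ X, x * x = 1) → X ≤ A ∨ X ≤ A'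
  KA : ∀ x ∈ K, ∀ a ∈ A, x * a * x⁻¹ ∈ A
  sw : ∀ x ∉ K, (∀ a ∈ A, x * a * x⁻¹ ∈ A') ∧ ∀ a ∈ A', x * a * x⁻¹ ∈ A
  sw2 : ∀ x ∉ K, ∀ y ∉ K, x * y ∈ K
  f2 : ∀ x ∈ K, ∀ y ∈ K, x ∉ B → y ∉ B → x * y ∈ B
  mD : ∀ x ∈ K, (∀ d ∈ D, d * x = x * d) → x ∈ B
  mA : ∀ x ∈ K, (∀ a ∈ A, x * a * x⁻¹ * a⁻¹ ∈ D) → x ∈ B
  mA' : ∀ x ∈ K, (∀ a ∈ A', x * a * x⁻¹ * a⁻¹ ∈ A) → x ∈ B

theorem onto {B A D H M : Subgroup G} (hG : IsPGroup 2 G) (cD : Nat.card D = 4) (iA : A.relIndex B = 4)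
    (sq : ∀ b ∈ B, b * b ∈ D) (cm : ∀ a ∈ A, ∀ b ∈ B, a * b = b * a → a ∈ D ∨ b ∈ A) (hH : H ≤ B)
    (hM : ∀ x ∈ H, x * x ∈ M) (h1 : 2 < A.relIndex H) (h2 : 4 < D.relIndex H) : D ≤ M := by
  have i4 : A.relIndex H ≤ 4 := iA ▸ relIndex_mono_right A hH
  have i4' : 4 ≤ A.relIndex H := by
    by_contra hn
    have := relIndex_le_pow (K := A) (hG.to_subgroup H) 1 (by omega)
    omega
  obtain ⟨x, hx, hxD⟩ : ∃ x ∈ H ⊓ A, x ∉ D := by
    by_contra! hn
    have := relIndex_le_mul D H A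
    rw [relIndex_eq_one.2 hn] at this
    omega
  intro d hd
  obtain ⟨y, hy, e⟩ := exists_of_index H A (fun y => y * x * y⁻¹ * x⁻¹) (D : Set G)
    (fun y hy => comm_mem sq (hH hy) (hH hx.1))
    (fun a ha b hb e => (cm x hx.2 _ (hH (mul_mem (inv_mem ha) hb)) (comm_fib' e).symm).resolve_left hxD)
    (cD.le.trans i4') hd
  exact e ▸ comm_mem hM hy hx.1

namespace Sh

variable {B A A' D K : Subgroup G} (h : Sh B A A' D K)
include h

theorem DA : D ≤ A := h.hD ▸ inf_le_left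

theorem DA' : D ≤ A' := h.hD ▸ inf_le_right

theorem mem {x : G} (h1 : x ∈ A) (h2 : x ∈ A') : x ∈ D := h.hD ▸ mem_inf.2 ⟨h1, h2⟩

theorem D_le {H M : Subgroup G} (hH : H ≤ B) (hM : ∀ x ∈ H, x * x ∈ M) (h2 : 4 < D.relIndex H) : D ≤ M := by
  by_cases h1 : 2 < A.relIndex H
  · exact onto h.pg h.cD h.iA h.sq (fun a ha b hb e => (h.cm a ha b hb e).imp_left (h.mem ha)) hH hM h1 h2
  by_cases h1' : 2 < A'.relIndex H
  · exact onto h.pg h.cD h.iA' h.sq (fun a ha b hb e => (h.cm' a ha b hb e).imp_left (h.mem · ha)) hH hM h1' h2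
  have := relIndex_inf_le (H := A) (K := A') (L := H)
  rw [h.hD] at this
  have := Nat.mul_le_mul (not_lt.1 h1) (not_lt.1 h1')
  omega

variable [hB : B.Normal] [hD : D.Normal]

theorem fld_A {t : G} (hK : t ∈ K) (ht : t ∉ B) : A.relIndex (B ⊓ cmod D t) ≤ 2 := by
  by_contra hn
  have i4' : A.relIndex B ≤ A.relIndex (B ⊓ cmod D t) := by
    by_contra hn'
    have := relIndex_le_pow (K := A) (h.pg.to_subgroup (B ⊓ cmod D t)) 1 (by rw [h.iA] at hn'; omega)
    omega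
  refine ht (h.mA' t hK fun a ha => ?_)
  obtain ⟨y, hy, hy'⟩ := cover_of_le inf_le_left i4' (h.A'B ha)
  have e1 := h.DA (comm_symm (mem_cmod.1 hy.2))
  have e2 := h.KA y (h.BK hy.1) _ (mul_mem (h.KA t hK _ hy') (inv_mem hy'))
  have := mul_mem e1 e2
  convert this using 1
  group

theorem fld_D {t : G} (hK : t ∈ K) (ht : t ∉ B) : D.relIndex (B ⊓ cmod D t ⊓ A) ≤ 2 := by
  by_contra hn
  have i4' : D.relIndex A ≤ D.relIndex (B ⊓ cmod D t ⊓ A) := by
    by_contra hn'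
    have := relIndex_le_pow (K := D) (h.pg.to_subgroup (B ⊓ cmod D t ⊓ A)) 1 (by rw [h.iD] at hn'; omega)
    omega
  refine ht (h.mA t hK fun a ha => ?_)
  obtain ⟨y, hy, hy'⟩ := cover_of_le inf_le_right i4' ha
  have : y * (y⁻¹ * a) ∈ cmod D t := mul_mem hy.1.2 (mem_cmod.2 (comm_mem_left hy' t))
  rw [mul_inv_cancel_left] at this
  exact comm_symm (mem_cmod.1 this)

theorem swp {t a : G} (hK : t ∉ K) (ha : a ∈ A) (hc : a * t * a⁻¹ * t⁻¹ ∈ D) : a ∈ D := by
  refine h.mem ha ?_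
  have := mul_mem (h.DA' hc) ((h.sw t hK).1 a ha)
  convert this using 1
  group

theorem four {t : G} (ht : t ∉ B) : D.relIndex (B ⊓ cmod D t) ≤ 4 := by
  have := relIndex_le_mul D (B ⊓ cmod D t) A
  by_cases hK : t ∈ K
  · exact this.trans (Nat.mul_le_mul (h.fld_D hK ht) (h.fld_A hK ht))
  · rw [relIndex_eq_one.2 (show B ⊓ cmod D t ⊓ A ≤ D from fun a ha => h.swp hK ha.2 (mem_cmod.1 ha.1.2)),
      one_mul] at this
    exact this.trans (h.iA ▸ relIndex_mono_right A inf_le_left)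

theorem sr : SR 16 (⊤ : Subgroup G) := by
  refine sr_of_le fun H _ M hMH hM => ?_
  have c4 : Nat.card (H ⊓ D : Subgroup G) ≤ 4 := h.cD ▸ card_le_of_le inf_le_right
  have hc : M.relIndex (H ⊓ D) ≤ 4 := (relIndex_le_card _ _).trans c4
  have hM0 : ∀ x ∈ H ⊓ B, x * x ∈ M := fun x hx => hM x hx.1
  by_cases hHB : H ≤ B
  · by_cases hj : 4 < D.relIndex H
    · have e := relIndex_mul_relIndex D A B h.DA h.AB
      rw [h.iD, h.iA] at e
      exact (relIndex_anti_left (h.D_le hHB hM hj) H).trans ((relIndex_mono_right D hHB).trans e.ge)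
    · exact (relIndex_le_mul M H D).trans (Nat.mul_le_mul hc (not_lt.1 hj))
  obtain ⟨t, tH, tB⟩ := SetLike.not_le_iff_exists.1 hHB
  have DB : D ≤ B := h.DA.trans h.AB
  have s1 := split' hMH B
  have s2 := split' (inf_le_inf_right B hMH) D
  rw [inf_assoc, inf_of_le_right DB, relIndex_congr (K := M ⊓ B) (M := M) (H := H ⊓ B)
    (fun x hx => and_iff_left hx.2), relIndex_congr (K := M ⊓ B) (M := M) (H := H ⊓ D)
    (fun x hx => and_iff_left (DB hx.2))] at s2
  have s3 := s1.trans (Nat.mul_le_mul_right _ s2)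
  have cj : ∀ t ∈ H, ∀ a ∈ H ⊓ B, a * t * a⁻¹ * t⁻¹ ∈ M ⊓ B := fun t ht a ha =>
    mem_inf.2 ⟨comm_mem hM ha.1 ht, comm_mem_left ha.2 t⟩
  have cn : ∀ t ∈ H, ∀ a ∈ H ⊓ B, t * a * t⁻¹ ∈ H ⊓ B := fun t ht a ha =>
    mem_inf.2 ⟨mul_mem (mul_mem ht ha.1) (inv_mem ht), hB.conj_mem a ha.2 t⟩
  have hb : (M ⊓ B ⊔ D).relIndex (H ⊓ B) ≤ 4 :=
    (comm_bound_mod D (cn t tH) (cj t tH)).trans
      ((relIndex_mono_right D (inf_le_inf_right _ inf_le_right)).trans (h.four tB))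
  have ha' : (M ⊔ B).relIndex H ≤ B.relIndex H := relIndex_anti_left le_sup_right H
  have ha : (M ⊔ B).relIndex H ≤ 4 := ha'.trans ((relIndex_le_index B H).trans h.iB)
  have fin : ∀ {x y z : ℕ}, M.relIndex (H ⊓ D) ≤ x → (M ⊓ B ⊔ D).relIndex (H ⊓ B) ≤ y →
      (M ⊔ B).relIndex H ≤ z → x * y * z ≤ 16 → M.relIndex H ≤ 16 := fun h1 h2 h3 h4 =>
    s3.trans ((Nat.mul_le_mul (Nat.mul_le_mul h1 h2) h3).trans h4)
  by_cases hj : 4 < D.relIndex (H ⊓ B)
  · exact fin (relIndex_eq_one.2 (inf_le_right.trans (h.D_le inf_le_right hM0 hj))).le hb ha (by norm_num)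
  by_cases hf : ∃ f ∈ H, f ∈ K ∧ f ∉ B
  · obtain ⟨f, fH, fK, fB⟩ := hf
    have hc2 : M.relIndex (H ⊓ D) ≤ 2 := by
      have h1 := comm_bound' hM D fH
      have h2 := two_mul_card_le (inf_le_right : centralizer ({f} : Set G) ⊓ D ≤ D) fun hle =>
        fB (h.mD f fK fun d hd => Sect.mem_cent.1 (hle hd).1)
      rw [h.cD] at h2
      omega
    by_cases hK : H ≤ K
    · exact fin hc2 hb (ha'.trans (relIndex_le_two fun x hx y hy x1 y1 =>
        h.f2 _ (inv_mem (hK hx)) _ (hK hy) (fun e => x1 (inv_mem_iff.1 e)) y1)) (by norm_num)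
    obtain ⟨s, sH, sK⟩ := SetLike.not_le_iff_exists.1 hK
    refine fin hc2 (y := 2) ?_ ha (by norm_num)
    by_contra hn
    have hle : M ⊓ B ≤ D := by
      by_contra hn'
      have e := relIndex_mul_relIndex (D ⊓ (H ⊓ B)) ((M ⊓ B ⊔ D) ⊓ (H ⊓ B)) (H ⊓ B)
        (inf_le_inf_right _ le_sup_right) inf_le_right
      rw [inf_relIndex_right, inf_relIndex_right] at e
      have := two_le_relIndex (K := D ⊓ (H ⊓ B)) (H := (M ⊓ B ⊔ D) ⊓ (H ⊓ B)) fun hle =>
        hn' fun x hx => (hle (mem_inf.2 ⟨mem_sup_left hx, mem_inf.2 ⟨hMH hx.1, hx.2⟩⟩)).1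
      have := Nat.mul_le_mul this (not_le.1 hn)
      omega
    have e := relIndex_le_mul D (H ⊓ B) A
    rw [relIndex_eq_one.2 (show H ⊓ B ⊓ A ≤ D from fun a ha => h.swp sK ha.2 (hle (cj s sH a ha.1))),
      one_mul] at e
    exact hn ((relIndex_anti_left le_sup_right _).trans (e.trans ((relIndex_mono_right A
      (show H ⊓ B ≤ B ⊓ cmod D f from fun a ha => mem_inf.2 ⟨ha.2, mem_cmod.2 (hle (cj f fH a ha))⟩)).trans
      (h.fld_A fK fB))))
  push Not at hf
  have nK : ∀ x ∈ H, x ∉ B → x ∉ K := fun x hx h1 h2 => h1 (hf x hx h2)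
  have ha2 : (M ⊔ B).relIndex H ≤ 2 := ha'.trans (relIndex_le_two fun x hx y hy x1 y1 =>
    hf _ (mul_mem (inv_mem hx) hy) (h.sw2 _ (fun e => nK x hx x1 (inv_mem_iff.1 e)) _ (nK y hy y1)))
  by_cases hc2 : M.relIndex (H ⊓ D) ≤ 2
  · exact fin hc2 hb ha2 (by norm_num)
  refine fin hc (y := 1) (relIndex_eq_one.2 (le_sup_of_le_right ?_)).le ha2 (by norm_num)
  have ex : ∀ x ∈ H ⊓ B, x * x = 1 := fun x hx => by
    by_contra h1
    have h2 := two_le_card (K := M ⊓ (H ⊓ D))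
      (mem_inf.2 ⟨hM0 x hx, mem_inf.2 ⟨mul_mem hx.1 hx.1, h.sq x hx.2⟩⟩) h1
    have h3 := card_eq_relIndex M (H ⊓ D)
    have := Nat.mul_le_mul h2 (not_le.1 hc2)
    omega
  have hs := h.sw t (nK t tH tB)
  have cn' : ∀ a ∈ H ⊓ B, t * (t⁻¹ * a * t⁻¹⁻¹) * t⁻¹ = a := fun a _ => by group
  rcases h.el _ inf_le_right ex with e | e
  · exact fun a ha => h.mem (e ha) (cn' a ha ▸ hs.1 _ (e (cn _ (inv_mem tH) a ha)))
  · exact fun a ha => h.mem (cn' a ha ▸ hs.2 _ (e (cn _ (inv_mem tH) a ha))) (e ha)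

end Sh

end SrP

open SrP Cf

theorem Cfg1.sr {F : Type} [Field F] [Fintype F] {T B L W A A' : Subgroup G}
    (h : Cfg1 F T B L W A A') (h4 : Fintype.card F = 4) (h1 : cen A L = ⊥) :
    SectionalPRankLE 2 4 G := by
  have hT := h.syl.isPGroup
  have AT := h.A_le.trans h.B_le
  have A'T := h.A'_le.trans h.B_le
  have : (B.subgroupOf T).Normal := normal_subgroupOf_of_le_normalizer h.T_le
  have : ((A ⊓ A').subgroupOf T).Normal := normal_subgroupOf_of_le_normalizer (h.T_le.trans h.norm_D)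
  have mK : ∀ x : T, x.1 ∈ normalizer (A : Set G) → x.1 ∈ normalizer (B : Set G) ⊓ normalizer (A : Set G) :=
    fun x hx => mem_inf.2 ⟨h.T_le x.2, hx⟩
  have cD := h.card_D
  have cB := h.card_le h4
  rw [h1, card_bot, h4] at cD
  refine sr_of_syl h.syl (Sh.sr (B := B.subgroupOf T) (A := A.subgroupOf T) (A' := A'.subgroupOf T)
    (D := (A ⊓ A').subgroupOf T) (K := (normalizer (A : Set G)).subgroupOf T)
    { pg := hT
      hD := rfl
      AB := fun x hx => h.A_le hx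
      A'B := fun x hx => h.A'_le hx
      BK := fun x hx => h.B_normA hx
      cD := by rw [card_sub (inf_le_left.trans AT), cD]
      iA := by rw [relIndex_subgroupOf h.B_le, h.idxA, h4]
      iA' := by rw [relIndex_subgroupOf h.B_le, h.idxA', h4]
      iD := by rw [relIndex_subgroupOf AT, h.idx, h4]
      iB := by
        have e := (B.subgroupOf T).index_mul_card
        rw [card_sub h.B_le] at e
        exact Nat.le_of_mul_le_mul_right (e.le.trans cB) Nat.card_pos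
      cm := fun a ha b hb e => h.mem_of_comm ha hb (congrArg Subtype.val e)
      cm' := fun a ha b hb e => h.mem_of_comm' ha hb (congrArg Subtype.val e)
      sq := fun b hb => h.sq_mem hb
      el := fun X hX e => (h.le_of_elem (X := X.map T.subtype) (map_le_iff_le_comap.2 hX) (by
        rintro _ ⟨x, hx, rfl⟩
        exact congrArg Subtype.val (e x hx))).imp map_le_iff_le_comap.1 map_le_iff_le_comap.1
      KA := fun x hx a ha => cjm (g := x.1) (x := a.1) (H := A) hx ha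
      sw := fun x hx => by
        obtain ⟨e1, e2⟩ := h.swap (h.T_le x.2) hx
        exact ⟨fun a ha => e1.le ⟨a.1, ha, rfl⟩, fun a ha => e2.le ⟨a.1, ha, rfl⟩⟩
      sw2 := fun x hx y hy => h.swap_mul (h.T_le x.2) (h.T_le y.2) hx hy
      f2 := fun x hx y hy x1 y1 => Fo.mul_mem_B h h4 hT x.2 y.2 (mK x hx) (mK y hy) x1 y1
      mD := fun x hx e => h.mem_B_of_D (mK x hx) (pg_zpowers hT x.2) fun d hd => by
        have := congrArg Subtype.val (e ⟨d, AT hd.1⟩ hd)
        simp only [coe_mul] at this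
        show x.1 * d * x.1⁻¹ * d⁻¹ ∈ cen A L
        rw [← this, mul_inv_cancel_right, mul_inv_cancel]
        exact one_mem _
      mA := fun x hx e => h.mem_B_of_A (mK x hx) (pg_zpowers hT x.2) fun a ha => e ⟨a, AT ha⟩ ha
      mA' := fun x hx e => h.mem_B_of_A' (mK x hx) (pg_zpowers hT x.2) fun a ha => e ⟨a, A'T ha⟩ ha })

/-- A 2-group with a self-centralizing normal extraspecial subgroup of order 32. -/
theorem sr_of_extra {S R : Subgroup G} {z : G} (hS : IsSylowIn 2 S ⊤) (hR : R ≤ S)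
    (hn : S ≤ normalizer (R : Set G)) (h32 : Nat.card R = 32) (hz : z ∈ R) (z1 : z ≠ 1)
    (z2 : z * z = 1) (zc : S ≤ centralizer ({z} : Set G)) (hsq : ∀ r ∈ R, r * r ∈ zpowers z)
    (hc : cen S R ≤ zpowers z) : SectionalPRankLE 2 4 G := by
  have : (R.subgroupOf S).Normal := normal_subgroupOf_of_le_normalizer hn
  have z2' : (⟨z, hR hz⟩ : S) * ⟨z, hR hz⟩ = 1 := Subtype.ext z2
  have tr : ∀ x : S, x.1 ∈ zpowers z → x ∈ zpowers (⟨z, hR hz⟩ : S) := fun x hx =>
    (Sect.mem_zpowers_two z2').2 (((Sect.mem_zpowers_two z2).1 hx).imp Subtype.ext Subtype.ext)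
  exact sr_of_syl hS (extra hS.isPGroup (R := R.subgroupOf S) (z := ⟨z, hR hz⟩) (by rw [card_sub hR, h32]) hz
    (fun e => z1 (congrArg Subtype.val e)) z2' (fun g => Subtype.ext (mem_cent1.1 (zc g.2)))
    (fun r hr => tr _ (hsq r.1 hr)) fun x hx => tr _ (hc (mem_inf.2 ⟨x.2, mem_cent.2 fun a ha =>
      congrArg Subtype.val (Sect.mem_cent'.1 hx ⟨a, hR ha⟩ ha)⟩)))

/-- Harada's theorem, and the self-centralizing four-group. -/
theorem sr_of_self {S A : Subgroup G} (hS : IsSylowIn 2 S ⊤) (hA : A ≤ S)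
    (he : IsElementaryAbelian 2 A) (h8 : Nat.card A ≤ 8) (hc : cen S A ≤ A) :
    SectionalPRankLE 2 4 G :=
  sr_of_syl hS (self hS.isPGroup (A := A.subgroupOf S) (fun a ha => Subtype.ext (sq_of_elem he ha))
    (by rwa [card_sub hA]) fun x hx => hc (mem_inf.2 ⟨x.2, mem_cent.2 fun a ha =>
      congrArg Subtype.val (Sect.mem_cent'.1 hx ⟨a, hA ha⟩ ha)⟩))

end CfsgLib.CGT2
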