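import Mathlib
import Cfsg.Agent.Lib.CGT2.CaseI
import Cfsg.Agent.Lib.CGT2.PSub

/-!
Package GOMI1: two natural `q² : SL₂(q)` over a common Sylow subgroup (see `plans/CGT3.md`).
-/

set_option autoImplicit false
set_option linter.unusedSectionVars false

namespace CfsgLib.CGT2

open Subgroup Cfsg CfsgLib.LAE CfsgLib.PLocal CfsgLib.Push CfsgLib.BHS CfsgLib.ZJ CfsgLib.SL2
  CfsgLib.Blocks CfsgLib.LocStr
open scoped commutatorElement

variable {G : Type*} [Group G] [Finite G]

namespace Gomi1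

variable {F : Type} [Field F] [Fintype F] {B L V L' V' : Subgroup G}

theorem half (a : Atom F B L V) (a' : Atom F B L' V') (e : cen B V = V) (e' : cen B V' = V')
    (z' : cen V' L' = ⊥) (sup : V ⊔ V' = B) : Nonempty (Half F B L V V V') := by
  refine ⟨⟨a, e, a.elem, a'.elem, sup, ?_⟩⟩
  have h1 := card_sup_of (a.W_le.trans a'.BW)
  have h2 := a'.idxQ
  rw [e'] at h2
  rw [sup, card_of_le a'.W_le, h2] at h1
  rw [inf_relIndex_left]
  exact (Nat.eq_of_mul_eq_mul_right Nat.card_pos h1).symm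

variable (H : Half F B L V V V') (h4 : 4 ≤ Fintype.card F)
  (n : normalizer (V : Set G) ≤ normalizer (L : Set G))
include H h4

theorem E_eq : eA L = L := by
  have := H.a.E_sup_Q (by omega)
  rwa [H.A_eq, sup_eq_left.2 H.a.W_le_E] at this

include n

theorem comm_le : ⁅L, centralizer (V : Set G)⁆ ≤ V := by
  have := H.a.comm_le_of_cen (X := centralizer (V : Set G))
    (fun x hx => H.a.norm_E (n (centralizer_le_normalizer _ hx))) le_rfl
  rwa [E_eq H h4] at this

theorem cenB_le : centralizer (B : Set G) ≤ V ⊔ centralizer (L : Set G) := by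
  have hc : centralizer (B : Set G) ≤ centralizer (V : Set G) := LAE.centralizer_anti H.A_le
  have hn : V ≤ normalizer ((centralizer (B : Set G) : Subgroup G) : Set G) :=
    le_normalizer_centralizer (H.A_le.trans le_normalizer)
  have := H.a.split (X := B) (Y := V ⊔ centralizer (B : Set G)) (sup_eq_left.2 inf_le_left) le_sup_left
    (fun l hl => mem_normalizer_of_conjS_le (by
      rw [conjS_sup, mem_normalizer_iff_conjS.1 (H.normA hl)]
      refine sup_le le_sup_left (conjS_le_iff_forall.2 fun x hx => ?_)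
      rw [show l * x * l⁻¹ = ⁅l, x⁆ * x by simp [commutatorElement_def]]
      exact mul_mem (mem_sup_left (comm_le H h4 n (commutator_mem_commutator hl (hc hx))))
        (mem_sup_right hx)))
    (sup_le (elemAb_le_centralizer H.elemA) hc) (by
      rw [cen, inf_eq_right.2 le_sup_right, ← H.a.idxC, relIndex_cen]
      have h1 := card_sup_of hn
      rw [card_of_le (le_sup_right : _ ≤ V ⊔ centralizer (B : Set G))] at h1
      exact (Nat.eq_of_mul_eq_mul_right Nat.card_pos h1).le)
  rw [E_eq H h4] at this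
  exact le_sup_right.trans (this.trans (sup_le_sup_left inf_le_right _))

theorem cenL_le (H' : Half F B L' V' V' V) (z : cen V L = ⊥) (z' : cen V' L' = ⊥)
    (n' : normalizer (V' : Set G) ≤ normalizer (L' : Set G)) :
    centralizer (L' : Set G) ≤ centralizer (L : Set G) := fun d hd => by
  have dB : d ∈ centralizer (B : Set G) := LAE.centralizer_anti H'.a.le hd
  obtain ⟨v, hv, d₁, hd₁, rfl⟩ := (mem_sup_iff_of_left_le_normalizer
    (le_normalizer_centralizer (H.A_le.trans (H.a.le.trans le_normalizer)))).1 (cenB_le H h4 n dB)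
  have vD : v ∈ V ⊓ V' := H.cenAB ▸ mem_inf.2 ⟨hv,
    (mul_mem_cancel_right (LAE.centralizer_anti H.a.le hd₁)).1 dB⟩
  obtain ⟨c⟩ := H.exists_coord
  obtain ⟨t, t0, t1⟩ := PSub.exists_ne_zero_one h4
  obtain ⟨x, hx, xL, -, x1, x2⟩ := c.torus t t0
  have xL' := pResOf_le L xL
  have xV' := H.norm_A' hx.1.1 hx.2
  have e1 : x * (v * d₁) * x⁻¹ * (v * d₁)⁻¹ = x * v * x⁻¹ * v⁻¹ := by
    rw [← mul_assoc, mul_assoc _ d₁, ← hd₁ _ (inv_mem xL')]; group
  have e2 : x * v * x⁻¹ * v⁻¹ ∈ cen V' L' :=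
    mem_inf.2 ⟨mul_mem (LAE.conj_mem_of_mem_normalizer xV' vD.2) (inv_mem vD.2), e1 ▸ mul_mem
      (LAE.conj_mem_of_mem_normalizer (normalizer_le_normalizer_centralizer _ (n' xV')) hd) (inv_mem hd)⟩
  rw [z', mem_bot, mul_inv_eq_one] at e2
  have e3 := c.δ_conj x hx v vD
  rw [e2, x1, x2, c.σ_of_mem x hx xL'] at e3
  have e4 : (t - 1) * c.δ v = 0 := by
    field_simp at e3
    linear_combination -e3
  have e5 := (c.δ_zero v vD).1 ((mul_eq_zero.1 e4).resolve_left (sub_ne_zero.2 t1))
  rw [z, mem_bot] at e5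
  rwa [e5, one_mul]

theorem cenV_le (loc : Loc G) (H' : Half F B L' V' V' V) (z' : cen V' L' = ⊥)
    (n' : normalizer (V' : Set G) ≤ normalizer (L' : Set G)) (hB : centralizer (B : Set G) ≤ V) :
    centralizer (V : Set G) ≤ V := by
  have hc := (loc V (H.a.two.to_le H.A_le) H.A_ne_bot).of_normal (centralizer_le_normalizer _)
    (normalizer_le_normalizer_centralizer _)
  have key : pCoreOf 2 (centralizer (V : Set G)) ≤ V := fun x hx => by
    have xV := pCoreOf_le _ hx
    have xB : x ∈ normalizer (B : Set G) := mem_normalizer_of_conjS_le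
      (conjS_le_iff_forall.2 fun b hb => by
        rw [show x * b * x⁻¹ = ⁅b, x⁆⁻¹ * b by simp [commutatorElement_def, mul_assoc]]
        exact mul_mem (inv_mem (H.A_le (comm_le H h4 n (commutator_mem_commutator (H.a.le hb) xV)))) hb)
    have xV' := H.norm_A' xB (centralizer_le_normalizer _ xV)
    obtain ⟨c⟩ := H'.exists_coord
    have hN : x ∈ normalizer (B : Set G) ⊓ normalizer (L' : Set G) ⊓ normalizer (V' : Set G) :=
      mem_inf.2 ⟨mem_inf.2 ⟨xB, n' xV'⟩, xV'⟩
    obtain ⟨b, hb, hy⟩ := c.lin x hN ((isPGroup_pCoreOf _).to_le (zpowers_le.2 hx))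
      (c.σ_eq_of_δ hN fun d hd => by rw [← xV d hd.2, mul_inv_cancel_right])
    obtain ⟨v', hv', v, hv, rfl⟩ := H'.exists_mul hb
    have h1 : x * (v' * v)⁻¹ ∈ centralizer (V' : Set G) :=
      mem_cen_of fun w hw => mem_bot.1 (z' ▸ hy.2 w hw)
    have h2 : x * v⁻¹ ∈ centralizer (B : Set G) := by
      rw [← H.sup, LAE.centralizer_sup]
      refine mem_inf.2 ⟨mul_mem xV (inv_mem (elemAb_le_centralizer H.elemA hv)), ?_⟩
      have := mul_mem h1 (elemAb_le_centralizer H.elemA' hv')
      rwa [mul_inv_rev, ← mul_assoc, inv_mul_cancel_right] at this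
    exact (mul_mem_cancel_right (inv_mem hv)).1 (hB h2)
  exact (hc.le_pCoreOf le_rfl (LAE.centralizer_anti key)).trans key

end Gomi1

theorem exists_cfg2_nat {F : Type} [Field F] [Fintype F] (loc : Loc G) (h4 : 4 ≤ Fintype.card F)
    {B L V L' V' T : Subgroup G} (a : Atom F B L V) (a' : Atom F B L' V') (e : cen B V = V)
    (e' : cen B V' = V') (z : cen V L = ⊥) (z' : cen V' L' = ⊥) (sup : V ⊔ V' = B)
    (n : normalizer (V : Set G) ≤ normalizer (L : Set G))
    (n' : normalizer (V' : Set G) ≤ normalizer (L' : Set G))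
    (hT : IsSylowIn 2 T (normalizer (L : Set G))) (hO : pCoreOf 2 (T ⊔ L ⊔ L') = ⊥) :
    ∃ S, Nonempty (Cfg2 F F S B L V V L' V' V') := by
  obtain ⟨H⟩ := Gomi1.half a a' e e' z' sup
  obtain ⟨H'⟩ := Gomi1.half a' a e' e z ((sup_comm _ _).trans sup)
  have c1 := Gomi1.cenL_le H' h4 n' H z' z n
  have hn := normalizer_le_normalizer_centralizer L
  have h1 : T ⊓ centralizer (L : Set G) = ⊥ := le_bot_iff.1 (hO ▸ le_pCoreOf hT.isPGroup.to_inf_left
    (inf_le_left.trans (le_sup_left.trans le_sup_left))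
    (sup_le (sup_le (le_normalizer_inf le_normalizer (hT.le.trans hn))
      (le_normalizer_of_le_centralizer (le_centralizer_iff.1 inf_le_right)))
      (le_normalizer_of_le_centralizer (le_centralizer_iff.1 (inf_le_right.trans c1)))))
  have h2 := hT.inf_of_normal (centralizer_le_normalizer _) hn
  rw [h1] at h2
  have h3 : pCoreOf 2 (centralizer (L : Set G)) = ⊥ :=
    h2.eq_of_le _ (isPGroup_pCoreOf _) bot_le (pCoreOf_le _)
  have h5 : normalizer (V : Set G) = normalizer (L : Set G) :=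
    le_antisymm n fun x hx => a.norm_W (a.norm_E hx)
  have h6 := ((h5 ▸ loc V a.pgW H.A_ne_bot :
    IsCharP 2 (normalizer (L : Set G))).of_normal (centralizer_le_normalizer _) hn).le_pCoreOf le_rfl
      (by rw [h3]; exact le_centralizer_iff.1 bot_le)
  have hc := Gomi1.cenV_le H h4 n loc H' z' n'
    ((Gomi1.cenB_le H h4 n).trans (sup_le le_rfl (h6.trans (h3.le.trans bot_le))))
  have triv : cen V L ⊓ cen V' L' = ⊥ := by rw [z, bot_inf_eq]
  obtain ⟨R, hR, hBR⟩ := exists_isSylowIn_ge H.a.two (le_normalizer (H := B))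
  have fa : cen R V ≤ V := inf_le_right.trans hc
  have hJ := H.J_eq_of h4 hR.isPGroup hBR hR.le (inf_le_right.trans n) fa
  have hR' := sylow_top_of_norm hR (hJ ▸ normalizer_le_normalizer_thompsonSubgroupOf R)
  exact ⟨R, ⟨{ toHalf := H, loc := loc, syl := hR', J_eq := hJ, four := h4, normL := n
               faith := fa, a' := a', A'_eq := e', triv := triv, normL' := n' }⟩⟩

end CfsgLib.CGT2
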