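import Mathlib
import Cfsg.Agent.Lib.CGT2.Defs

/-!
The hypothesis of Aschbacher's rank one pushing up theorem (see `plans/CGT3.md`).
-/

set_option autoImplicit false

namespace CfsgLib.CGT2

open Subgroup Cfsg CfsgLib.LAE CfsgLib.PLocal CfsgLib.Push CfsgLib.BHS CfsgLib.ZJ CfsgLib.SL2
  CfsgLib.Blocks CfsgLib.LocStr
open scoped commutatorElement

variable {G : Type*} [Group G]

/-- `K = O²(H)`, `N(K)` is the only maximal 2-local subgroup over `H`, and `O₂(H)` is a Sylow
subgroup of the centralizer of `K / O₂(K)` in `N(K)`. -/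
structure PH (H T K : Subgroup G) : Prop where
  loc : Loc G
  syl : IsSylowIn 2 T H
  res : pResOf 2 H = K
  char : IsCharP 2 H
  uniq : ∀ X : Subgroup G, IsPGroup 2 X → X ≠ ⊥ → H ≤ normalizer (X : Set G) →
    normalizer (X : Set G) ≤ normalizer (K : Set G)
  hsyl : ∀ S : Subgroup G, IsPGroup 2 S → pCoreOf 2 H ≤ S → S ≤ normalizer (K : Set G) →
    ⁅S, K⁆ ≤ pCoreOf 2 K → S ≤ pCoreOf 2 H

end CfsgLib.CGT2
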