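import Mathlib
import Cfsg.Agent.Lib.CGT2.PDefs
import Cfsg.Agent.Lib.CGT2.Cfg
import Cfsg.Agent.Lib.CGT2.Set
import Cfsg.Agent.Lib.CGT2.SymA

/-!
Package A5, first part: the action of `N(K)` on five points (see `plans/CGT3.md`).
-/

set_option autoImplicit false
set_option linter.unusedSectionVars false

namespace CfsgLib.CGT2.PA5

open Subgroup Cfsg CfsgLib.LAE CfsgLib.PLocal CfsgLib.Push CfsgLib.BHS CfsgLib.ZJ CfsgLib.SL2
  CfsgLib.Blocks CfsgLib.LocStr Equiv Cf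
open scoped commutatorElement

abbrev P5 := Perm (Fin 5)
abbrev V5 := Fin 5 → ZMod 2
def s1 : P5 := swap 0 1 * swap 2 3
def s2 : P5 := swap 0 2 * swap 1 3
def s3 : P5 := swap 0 3 * swap 1 2
def xx : P5 := swap 0 1 * swap 1 2
def v4 : V5 := ![1, 1, 1, 1, 0]
def IV (σ : P5) : Prop := σ = 1 ∨ σ = s1 ∨ σ = s2 ∨ σ = s3
instance : DecidablePred IV := fun σ => inferInstanceAs (Decidable (σ = 1 ∨ σ = s1 ∨ σ = s2 ∨ σ = s3))
abbrev E4 (σ : P5) : Prop := σ * σ * (σ * σ) = 1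
abbrev Fx (σ : P5) (u : V5) : Prop := ∀ i, u (σ i) = u i

theorem f1 : ∀ σ : P5, σ * σ * (σ * σ) * (σ * σ * (σ * σ)) = 1 → E4 σ := by decide +kernel
theorem f2 : ∀ σ : P5, Perm.sign σ = 1 → σ 4 = 4 → E4 σ → IV σ := by decide +kernel
theorem f3 : ∀ σ : P5, IV σ → σ * σ = 1 ∧ Perm.sign σ = 1 ∧ σ 4 = 4 ∧ IV (xx⁻¹ * σ * xx) ∧ IV σ⁻¹ := by
  decide +kernel
theorem f3' {σ τ : P5} (h : IV σ) (h' : IV τ) : IV (σ * τ) := by
  rcases h with rfl | rfl | rfl | rfl <;> rcases h' with rfl | rfl | rfl | rfl <;> decide +kernel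
theorem f4 : ∀ σ : P5, σ 4 = 4 → E4 σ → E4 (σ * (xx * σ * xx⁻¹)) → IV σ := by decide +kernel
theorem f5 : ∀ σ : P5, σ 4 = 4 → σ * σ = 1 → σ * (xx * σ * xx⁻¹) = xx * σ * xx⁻¹ * σ → IV σ := by
  decide +kernel
theorem f6 {σ τ : P5} (h : IV σ) (h' : IV τ) : σ ≠ 1 → τ ≠ 1 → τ ≠ σ → ∀ u : V5, ∑ i, u i = 0 →
    Fx σ u → Fx τ u → u = 0 ∨ u = v4 := by
  rcases h with rfl | rfl | rfl | rfl <;> rcases h' with rfl | rfl | rfl | rfl <;> decide +kernel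
theorem f7 {a b c : P5} (ha : IV a) (hb : IV b) (hc : IV c) :
    a = 1 ∨ b = 1 ∨ c = 1 ∨ a * b = 1 ∨ a * c = 1 ∨ b * c = 1 ∨ a * b * c = 1 := by
  rcases ha with rfl | rfl | rfl | rfl <;> rcases hb with rfl | rfl | rfl | rfl <;>
    rcases hc with rfl | rfl | rfl | rfl <;> decide +kernel
theorem f8 {σ : P5} (h : IV σ) : σ ≠ 1 → ∃ u : V5, ∑ i, u i = 0 ∧ ∃ v : V5, ∑ i, v i = 0 ∧
    ¬ Fx σ u ∧ ¬ Fx σ v ∧ ¬ Fx σ (u + v) := by
  rcases h with rfl | rfl | rfl | rfl <;> decide +kernel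
theorem f9 : ∀ σ : P5, Perm.sign σ = 1 → σ 4 = 4 →
    σ * σ * σ = 1 ∨ σ * xx⁻¹ * (σ * xx⁻¹) * (σ * xx⁻¹) = 1 := by decide +kernel
theorem f10 : ∀ i : Fin 5, ∃ σ : P5, Perm.sign σ = 1 ∧ σ 4 = i := by decide +kernel
theorem f11 : ∀ u : V5, ∑ i, u i = 0 → u 4 = 0 → ∃ v : V5, ∑ i, v i = 0 ∧
    ((∀ i, v (s1⁻¹ i) + v i = u i) ∨ (∀ i, v (s2⁻¹ i) + v i = u i) ∨ ∀ i, v (s3⁻¹ i) + v i = u i) := by
  decide +kernel
theorem f12 : ∀ σ : P5, (∀ u : V5, ∑ i, u i = 0 → u 4 = 0 → Fx σ u) → σ = 1 := by decide +kernel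
theorem f13 {σ : P5} (h : IV σ) : ∀ u : V5, ∑ i, u i = 0 → u 4 = 0 →
    (∀ i, u (σ⁻¹ i) + u i = 0) ∨ ∀ i, u (σ⁻¹ i) + u i = v4 i := by
  rcases h with rfl | rfl | rfl | rfl <;> decide +kernel
theorem f14 {σ τ : P5} (h : IV σ) (h' : IV τ) : σ ≠ 1 → τ ≠ 1 →
    τ = σ ∨ τ = xx * σ * xx⁻¹ ∨ τ = xx * xx * σ * (xx * xx)⁻¹ := by
  rcases h with rfl | rfl | rfl | rfl <;> rcases h' with rfl | rfl | rfl | rfl <;> decide +kernel
theorem f15 : Nat.card {u : V5 // ∑ i, u i = 0 ∧ u 4 = 0} = 8 := by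
  rw [Nat.card_eq_fintype_card]; decide +kernel
theorem f15' : Nat.card {σ : P5 // IV σ} = 4 := by
  rw [Nat.card_eq_fintype_card]; decide +kernel
theorem f16 : ∀ σ : P5, Fx σ v4 ↔ σ 4 = 4 := by decide +kernel
theorem f17 : Perm.sign xx = 1 ∧ xx 4 = 4 ∧ xx ^ 3 = 1 ∧ ∑ i, v4 i = 0 ∧ v4 ≠ 0 ∧ v4 4 = 0 ∧
  IV s1 ∧ IV s2 ∧ IV s3 ∧ s1 ≠ 1 ∧ s2 ≠ 1 ∧ s3 ≠ 1 ∧ s2 ≠ s1 := by decide +kernel

theorem z2a : ∀ a : ZMod 2, a + (a + a) = 0 → a = 0 := by decide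

theorem z2b : ∀ a b c : ZMod 2, a = b + c → c = a + b := by decide

theorem z2c : ∀ a b c : ZMod 2, a + c + (b + c) = a + b := by decide

theorem e4_of_pow {σ : P5} {k : ℕ} (h : σ ^ 2 ^ k = 1) : E4 σ := by
  have h1 := orderOf_dvd_of_pow_eq_one h
  have h2 : orderOf σ ∣ 8 * 15 := by
    have := orderOf_dvd_card (x := σ)
    rwa [Fintype.card_perm, Fintype.card_fin] at this
  have h3 : (orderOf σ).Coprime 15 :=
    Nat.Coprime.coprime_dvd_left h1 (Nat.Coprime.pow_left k (by norm_num))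
  have h4 := orderOf_dvd_iff_pow_eq_one.1 (h3.dvd_of_dvd_mul_right h2)
  refine f1 σ (Eq.trans ?_ h4)
  simp only [pow_succ, pow_zero, one_mul, mul_assoc]

/-- The four-group on the first four points. -/
def VV : Subgroup P5 where
  carrier := {σ | IV σ}
  one_mem' := .inl rfl
  mul_mem' := f3'
  inv_mem' h := (f3 _ h).2.2.2.2

variable {G : Type*} [Group G] [Finite G]

/-- The action of `N(K)` on five points. -/
structure Sit (H T K W : Subgroup G) where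
  R : Subgroup P5
  D : PermData (Fin 5) R (normalizer (K : Set G)) W (cen W K)
  ph : PH H T K
  elem : IsElementaryAbelian 2 W
  ne : W ≠ ⊥
  core : pCoreOf 2 K = W
  ker : ∀ x ∈ normalizer (K : Set G), D.ρ x = 1 ↔ x ∈ centralizer (W : Set G)
  inf : K ⊓ centralizer (W : Set G) = W
  alt : D.img K = alternatingGroup (Fin 5)
  cQ : pCoreOf 2 H ≤ centralizer (W : Set G)
  cK : ∀ X : Subgroup G, X ≤ normalizer (K : Set G) → X ≤ centralizer (W : Set G) → ⁅K, X⁆ ≤ W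

theorem nonempty_sit {H T K : Subgroup G} (h : PH H T K) (b : Blk0 2 K) (s : SymB 2 K) :
    Nonempty (Sit H T K (pCoreOf 2 K)) := by
  have hW : WE 2 K = pCoreOf 2 K := by rw [WE, ← s.eq, b.core]
  have hΩ : Odd (Fintype.card (Fin 5)) := by decide
  have h3 : 2 < Fintype.card (Fin 5) := by decide
  have nat : Nonempty (PermData (Fin 5) (alternatingGroup (Fin 5)) K (WP 2 K) (ZE 2 K)) := s.nat
  obtain ⟨D₀⟩ : Nonempty (PermData (Fin 5) (alternatingGroup (Fin 5)) K (WE 2 K)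
    (cen (WE 2 K) K)) := by rw [hW, s.eq]; exact nat
  obtain ⟨R, D, alt⟩ := SymA.exists_ext hΩ h3 D₀ (le_nn le_rfl) le_rfl le_normalizer
  have hHK : H ≤ normalizer (K : Set G) := h.res ▸ le_normalizer_pResOf H
  rw [← hW]
  exact ⟨⟨R, D, h, elemAb_WE K, b.WE_ne_bot, hW.symm, fun x hx => (D.ρ_eq_one_iff h3 hx).trans
    ⟨fun e => zpowers_le.1 (b.le_cen_of_kl (zpowers_le.2 hx) (zpowers_le.2 e)), fun e => cen_le_kl e⟩,
    b.inf_cen_WE.trans hW.symm, alt, b.le_cen_WE (isPGroup_pCoreOf H) ((pCoreOf_le H).trans hHK)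
      ((h.res ▸ pResOf_le H : K ≤ H).trans (le_normalizer_pCoreOf H)),
    fun X h1 h2 => (b.commutator_le_of_cen h1 h2).trans hW.ge⟩⟩

namespace Sit

variable {H T K W : Subgroup G} (s : Sit H T K W) {x y w k t u : G}
include s

theorem HM : H ≤ normalizer (K : Set G) := s.ph.res ▸ le_normalizer_pResOf H
theorem KH : K ≤ H := s.ph.res ▸ pResOf_le H
theorem TM : T ≤ normalizer (K : Set G) := s.ph.syl.le.trans s.HM
theorem WK : W ≤ K := s.inf.ge.trans inf_le_left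
theorem WM : W ≤ normalizer (K : Set G) := s.WK.trans le_normalizer
theorem WC : W ≤ centralizer (W : Set G) := elemAb_le_centralizer s.elem
theorem pW : IsPGroup 2 W := elemAb_isPGroup s.elem
theorem NW : normalizer (W : Set G) ≤ normalizer (K : Set G) :=
  s.ph.uniq W s.pW s.ne (s.HM.trans s.D.norm)
theorem CW : centralizer (W : Set G) ≤ normalizer (K : Set G) :=
  (centralizer_le_normalizer _).trans s.NW
theorem WQ : W ≤ pCoreOf 2 H := le_pCoreOf s.pW (s.WK.trans s.KH) (s.HM.trans s.D.norm)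
theorem QT : pCoreOf 2 H ≤ T := s.ph.syl.pCoreOf_le
theorem WT : W ≤ T := s.WQ.trans s.QT
theorem le_of {N : Subgroup G} (h1 : K ≤ N) (h2 : T ≤ N) : H ≤ N :=
  s.ph.syl.le_of_pResOf_le (s.ph.res ▸ h1) h2
theorem sq (hw : w ∈ W) : w * w = 1 := sq_of_elem s.elem hw
theorem cm {w' : G} (hw : w ∈ W) (hw' : w' ∈ W) : w * w' = w' * w := mem_cent.1 (s.WC hw') w hw
theorem cj (hy : y ∈ normalizer (K : Set G)) (hw : w ∈ W) : y * w * y⁻¹ ∈ W := cjm (s.D.norm hy) hw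

theorem toQ {S : Subgroup G} (hS : IsPGroup 2 S) (h1 : pCoreOf 2 H ≤ S)
    (h2 : S ≤ centralizer (W : Set G)) : S ≤ pCoreOf 2 H :=
  s.ph.hsyl S hS h1 (h2.trans s.CW) (by
    rw [Subgroup.commutator_comm, s.core]; exact s.cK S (h2.trans s.CW) h2)

theorem TQ (ht : t ∈ T) (hc : t ∈ centralizer (W : Set G)) : t ∈ pCoreOf 2 H :=
  s.toQ (S := T ⊓ centralizer (W : Set G)) s.ph.syl.isPGroup.to_inf_left (le_inf s.QT s.cQ)
    inf_le_right ⟨ht, hc⟩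

theorem QK (hk : k ∈ K) (hu : u ∈ pCoreOf 2 H) : k * u * k⁻¹ * u⁻¹ ∈ W :=
  s.cK _ (s.QT.trans s.TM) s.cQ (commutator_mem_commutator hk hu)

theorem lift {σ : P5} (h : Perm.sign σ = 1) : ∃ k ∈ K, s.D.ρ k = σ :=
  let ⟨k, _, hk, e⟩ := s.D.mem_img.1 (s.alt.ge (Perm.mem_alternatingGroup.2 h)); ⟨k, hk, e⟩

theorem sign (hk : k ∈ K) : Perm.sign (s.D.ρ k) = 1 :=
  Perm.mem_alternatingGroup.1 (s.alt.le (s.D.ρ_mem_img (le_normalizer hk) hk))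

theorem memW (hk : k ∈ K) (h : s.D.ρ k = 1) : k ∈ W :=
  s.inf.le ⟨hk, (s.ker k (le_normalizer hk)).1 h⟩

theorem ρW (hw : w ∈ W) : s.D.ρ w = 1 := (s.ker w (s.WM hw)).2 (s.WC hw)

theorem e4 {X : Subgroup G} (hX : IsPGroup 2 X) (hy : y ∈ X) (hM : y ∈ normalizer (K : Set G)) :
    E4 (s.D.ρ y) := by
  obtain ⟨k, hk⟩ := isPGroup_iff_forall_mem.1 hX y hy
  exact e4_of_pow (k := k) (by rw [← s.D.ρ_pow hM, hk, s.D.ρ_one])

theorem fx_of_comm (hy : y ∈ normalizer (K : Set G)) (hw : w ∈ W) (h : y * w = w * y) :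
    Fx (s.D.ρ y) (s.D.ψ w) := fun i => by
  rw [← s.D.ψ_conj y hy w hw i, h, mul_inv_cancel_right]

theorem mem_Z (hy : y ∈ normalizer (K : Set G)) (hw : w ∈ W) (h : Fx (s.D.ρ y) (s.D.ψ w)) :
    y * w * y⁻¹ * w⁻¹ ∈ cen W K := by
  refine (s.D.ψ_eq_zero _ (mul_mem (s.cj hy hw) (inv_mem hw))).1 (funext fun i => ?_)
  obtain ⟨i, rfl⟩ := (s.D.ρ y).surjective i
  rw [s.D.ψ_mul _ (s.cj hy hw) _ (inv_mem hw), s.D.ψ_inv hw, Pi.add_apply, s.D.ψ_conj y hy w hw, h]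
  exact CharTwo.add_self_eq_zero _

omit s in
theorem comm_of_cube {c : G} (h3 : x ^ 3 = 1) (e : c = x * u * x⁻¹ * u⁻¹) (c2 : c * c = 1)
    (hc : x * c = c * x) : x * u = u * x := by
  have e1 : x * u * x⁻¹ = c * u := by rw [e]; group
  have e2 : ∀ a, x * (c * a) * x⁻¹ = c * (x * a * x⁻¹) := fun a => by
    rw [← mul_assoc, hc]; group
  have e3 : x ^ 3 * u * (x ^ 3)⁻¹ = x * (x * (x * u * x⁻¹) * x⁻¹) * x⁻¹ := by
    rw [pow_three]; group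
  rw [h3, e1, e2, e1, e2, e2, e1, ← mul_assoc c c, c2, one_mul, one_mul, inv_one, mul_one] at e3
  rw [← e3] at e1
  exact mul_inv_eq_iff_eq_mul.1 e1

theorem fixW (hx : x ∈ K) (h3 : x ^ 3 = 1) (hw : w ∈ W) (h : Fx (s.D.ρ x) (s.D.ψ w)) :
    x * w = w * x :=
  have := s.mem_Z (le_normalizer hx) hw h
  comm_of_cube h3 rfl (s.sq this.1) (mem_cent.1 this.2 x hx)

theorem exists_x : ∃ x ∈ K, x ^ 3 = 1 ∧ s.D.ρ x = xx := by
  obtain ⟨k, hk, e⟩ := s.lift f17.1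
  have h1 := s.sq (s.memW (pow_mem hk 3) (by rw [s.D.ρ_pow (le_normalizer hk), e, f17.2.2.1]))
  refine ⟨k ^ 4, pow_mem hk 4, ?_, ?_⟩
  · calc (k ^ 4) ^ 3 = k ^ 3 * k ^ 3 * (k ^ 3 * k ^ 3) := by group
      _ = 1 := by rw [h1, one_mul]
  · rw [s.D.ρ_pow (le_normalizer hk), e, pow_succ, f17.2.2.1, one_mul]

theorem rel {n : G} (hn : ∀ w ∈ W, n * w * n⁻¹ ∈ normalizer (K : Set G))
    (hn' : ∀ w ∈ W, n⁻¹ * w * n⁻¹⁻¹ ∈ normalizer (K : Set G)) {w' : G} (hw : w ∈ W) (hw' : w' ∈ W)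
    (h : s.D.ρ (n⁻¹ * w * n⁻¹⁻¹) = 1) : Fx (s.D.ρ (n * w' * n⁻¹)) (s.D.ψ w) := by
  refine s.fx_of_comm (hn w' hw') hw ?_
  have := mem_cent.1 ((s.ker _ (hn' w hw)).1 h) w' hw'
  calc n * w' * n⁻¹ * w = n * (w' * (n⁻¹ * w * n⁻¹⁻¹)) * n⁻¹ := by group
    _ = w * (n * w' * n⁻¹) := by rw [this]; group

/-- Two conjugates of `W` acting on each other through the four-groups commute. -/
theorem lemB {n : G} (hn : ∀ w ∈ W, n * w * n⁻¹ ∈ normalizer (K : Set G) ∧ IV (s.D.ρ (n * w * n⁻¹)))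
    (hn' : ∀ w ∈ W, n⁻¹ * w * n⁻¹⁻¹ ∈ normalizer (K : Set G) ∧ IV (s.D.ρ (n⁻¹ * w * n⁻¹⁻¹)))
    (hw : w ∈ W) : n * w * n⁻¹ ∈ centralizer (W : Set G) := by
  refine (s.ker _ (hn w hw).1).1 (by_contra fun h0 => ?_)
  have r1 := fun {a b} => s.rel (w := a) (w' := b) (fun w hw => (hn w hw).1) fun w hw => (hn' w hw).1
  have r2 := fun {a b} => s.rel (n := n⁻¹) (w := a) (w' := b) (fun w hw => (hn' w hw).1)
    fun w hw => by simpa only [inv_inv] using (hn w hw).1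
  have m1 : ∀ {a b}, a ∈ W → b ∈ W → s.D.ρ (n * (a * b) * n⁻¹) =
      s.D.ρ (n * a * n⁻¹) * s.D.ρ (n * b * n⁻¹) := fun ha hb => by
    rw [← s.D.ρ_mul _ (hn _ ha).1 _ (hn _ hb).1, conj_mul]
  have m2 : ∀ {a b}, a ∈ W → b ∈ W → s.D.ρ (n⁻¹ * (a * b) * n⁻¹⁻¹) =
      s.D.ρ (n⁻¹ * a * n⁻¹⁻¹) * s.D.ρ (n⁻¹ * b * n⁻¹⁻¹) := fun ha hb => by
    rw [← s.D.ρ_mul _ (hn' _ ha).1 _ (hn' _ hb).1, conj_mul]
  by_cases h1 : ∃ w1 ∈ W, s.D.ρ (n * w1 * n⁻¹) ≠ 1 ∧ s.D.ρ (n * w1 * n⁻¹) ≠ s.D.ρ (n * w * n⁻¹)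
  · obtain ⟨w1, hw1, h2, h3⟩ := h1
    have key : ∀ p ∈ W, s.D.ρ (n⁻¹ * p * n⁻¹⁻¹) = 1 → s.D.ψ p = 0 ∨ s.D.ψ p = v4 := fun p hp e =>
      f6 (hn w hw).2 (hn w1 hw1).2 h0 h2 h3 _ (s.D.ψ_sum p hp) (r1 hp hw e) (r1 hp hw1 e)
    obtain ⟨a, ha, ea⟩ := s.D.ψ_surj ![1, 1, 0, 0, 0] (by decide)
    obtain ⟨b, hb, eb⟩ := s.D.ψ_surj ![1, 0, 1, 0, 0] (by decide)
    obtain ⟨c, hc, ec⟩ := s.D.ψ_surj ![1, 0, 0, 0, 1] (by decide)
    rcases f7 (hn' a ha).2 (hn' b hb).2 (hn' c hc).2 with e | e | e | e | e | e | e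
    · exact absurd (key a ha e) (by rw [ea]; decide)
    · exact absurd (key b hb e) (by rw [eb]; decide)
    · exact absurd (key c hc e) (by rw [ec]; decide)
    · exact absurd (key _ (mul_mem ha hb) ((m2 ha hb).trans e))
        (by rw [s.D.ψ_mul _ ha _ hb, ea, eb]; decide)
    · exact absurd (key _ (mul_mem ha hc) ((m2 ha hc).trans e))
        (by rw [s.D.ψ_mul _ ha _ hc, ea, ec]; decide)
    · exact absurd (key _ (mul_mem hb hc) ((m2 hb hc).trans e))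
        (by rw [s.D.ψ_mul _ hb _ hc, eb, ec]; decide)
    · exact absurd (key _ (mul_mem (mul_mem ha hb) hc) (by rw [m2 (mul_mem ha hb) hc, m2 ha hb, e]))
        (by rw [s.D.ψ_mul _ (mul_mem ha hb) _ hc, s.D.ψ_mul _ ha _ hb, ea, eb, ec]; decide)
  push Not at h1
  obtain ⟨w', hw', h2⟩ : ∃ w' ∈ W, s.D.ρ (n⁻¹ * w' * n⁻¹⁻¹) ≠ 1 := by
    by_contra! hh
    obtain ⟨u, hu, -, -, h, -⟩ := f8 (hn w hw).2 h0
    obtain ⟨a, ha, rfl⟩ := s.D.ψ_surj u hu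
    exact h (r1 ha hw (hh a ha))
  obtain ⟨u, hu, v, hv, k1, k2, k3⟩ := f8 (hn' w' hw').2 h2
  obtain ⟨a, ha, rfl⟩ := s.D.ψ_surj u hu
  obtain ⟨b, hb, rfl⟩ := s.D.ψ_surj v hv
  have e1 := h1 a ha fun e => k1 (r2 ha hw' (by simpa only [inv_inv] using e))
  have e2 := h1 b hb fun e => k2 (r2 hb hw' (by simpa only [inv_inv] using e))
  rw [← s.D.ψ_mul _ ha _ hb] at k3
  refine k3 (r2 (mul_mem ha hb) hw' ?_)
  simp only [inv_inv]
  rw [m1 ha hb, e1, e2, (f3 _ (hn w hw).2).1]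

/-- The cocycle argument: an element of `O₂(H)` acts on `K` like an element of `W`. -/
theorem exists_cob (hu : u ∈ pCoreOf 2 H) :
    ∃ y ∈ W, ∀ k ∈ K, s.D.ψ (k * u * k⁻¹ * u⁻¹) = s.D.ψ (k * y * k⁻¹ * y⁻¹) := by
  set f : G → V5 := fun k => s.D.ψ (k * u * k⁻¹ * u⁻¹) with hf
  have co : ∀ a ∈ K, ∀ b ∈ K, ∀ i, f (a * b) (s.D.ρ a i) = f b i + f a (s.D.ρ a i) := by
    intro a ha b hb i
    simp only [hf]
    rw [show a * b * u * (a * b)⁻¹ * u⁻¹ = a * (b * u * b⁻¹ * u⁻¹) * a⁻¹ * (a * u * a⁻¹ * u⁻¹) by group,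
      s.D.ψ_mul _ (s.cj (le_normalizer ha) (s.QK hb hu)) _ (s.QK ha hu), Pi.add_apply,
      s.D.ψ_conj a (le_normalizer ha) _ (s.QK hb hu)]
  have ml : ∀ {a b}, a ∈ K → b ∈ K → s.D.ρ (a * b) = s.D.ρ a * s.D.ρ b := fun ha hb =>
    s.D.ρ_mul _ (le_normalizer ha) _ (le_normalizer hb)
  have c3 : ∀ a ∈ K, s.D.ρ a 4 = 4 → s.D.ρ a * s.D.ρ a * s.D.ρ a = 1 → f a 4 = 0 := by
    intro a ha h4 h
    have h1 : a * (a * a) ∈ W := s.memW (mul_mem ha (mul_mem ha ha))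
      (by rw [ml ha (mul_mem ha ha), ml ha ha, ← mul_assoc, h])
    have h2 : f (a * (a * a)) = 0 := by
      simp only [hf]
      rw [mem_cent.1 (s.cQ hu) _ h1, mul_inv_cancel_right, mul_inv_cancel, s.D.ψ_one]
    have h5 := co a ha _ (mul_mem ha ha) 4
    have h6 := co a ha a ha 4
    rw [h4] at h5 h6
    rw [h2, h6, add_comm] at h5
    exact z2a _ h5.symm
  obtain ⟨x, hx, -, ex⟩ := s.exists_x
  have c4 : ∀ a ∈ K, s.D.ρ a 4 = 4 → f a 4 = 0 := by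
    intro a ha h4
    rcases f9 _ (s.sign ha) h4 with h | h
    · exact c3 a ha h4 h
    have e : s.D.ρ (a * x⁻¹) = s.D.ρ a * xx⁻¹ := by
      rw [ml ha (inv_mem hx), s.D.ρ_inv (le_normalizer hx), ex]
    have e4 : s.D.ρ (a * x⁻¹) 4 = 4 := by
      rw [e, Perm.mul_apply, Perm.inv_eq_iff_eq.2 f17.2.1.symm, h4]
    have h5 := co _ (mul_mem ha (inv_mem hx)) x hx 4
    rwa [inv_mul_cancel_right, e4, c3 _ (mul_mem ha (inv_mem hx)) e4 (e ▸ h),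
      c3 x hx (ex ▸ f17.2.1) (by rw [ex, ← pow_three', f17.2.2.1]), add_zero] at h5
  have : ∀ i, ∃ k ∈ K, s.D.ρ k 4 = i := fun i =>
    let ⟨_, h1, h2⟩ := f10 i; let ⟨k, hk, e⟩ := s.lift h1; ⟨k, hk, e ▸ h2⟩
  choose κ hκ eκ using this
  have c5 : ∀ a ∈ K, f a (s.D.ρ a 4) = f (κ (s.D.ρ a 4)) (s.D.ρ a 4) := by
    intro a ha
    have h1 := mul_mem (inv_mem (hκ (s.D.ρ a 4))) ha
    have h2 := co _ (hκ (s.D.ρ a 4)) _ h1 4
    rwa [mul_inv_cancel_left, eκ, c4 _ h1 (by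
      rw [ml (inv_mem (hκ _)) ha, s.D.ρ_inv (le_normalizer (hκ _)), Perm.mul_apply,
        Perm.inv_eq_iff_eq, eκ]), zero_add] at h2
  obtain ⟨y, hy, e⟩ := s.D.ψ_surj (fun i => f (κ i) i + ∑ j, f (κ j) j) (by
    rw [Finset.sum_add_distrib, Finset.sum_const, Finset.card_univ, Fintype.card_fin]
    generalize ∑ j, f (κ j) j = c
    revert c; decide)
  refine ⟨y, hy, fun k hk => funext fun i => ?_⟩
  obtain ⟨j, rfl⟩ := (s.D.ρ k).surjective i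
  have h1 := c5 _ (mul_mem hk (hκ j))
  rw [ml hk (hκ j), Perm.mul_apply, eκ, co k hk _ (hκ j)] at h1
  rw [s.D.ψ_mul _ (s.cj (le_normalizer hk) hy) _ (inv_mem hy), s.D.ψ_inv hy, Pi.add_apply,
    s.D.ψ_conj k (le_normalizer hk) y hy, e, z2c, add_comm]
  exact z2b _ _ _ h1.symm

variable (fix : ∀ t ∈ T, s.D.ρ t 4 = 4)
include fix

theorem iv_of (hk : k ∈ K) (ht : k ∈ T) : IV (s.D.ρ k) :=
  f2 _ (s.sign hk) (fix k ht) (s.e4 s.ph.syl.isPGroup ht (s.TM ht))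

theorem mem_T (hk : k ∈ K) (h : IV (s.D.ρ k)) : k ∈ T := by
  have h1 := (s.ph.syl.inf_of_normal s.KH s.HM).eq_of_le (K ⊓ SymA.pre s.D VV)
    (isPGroup_iff_forall_mem.2 fun a ha => ⟨2, by
      have := s.sq (s.memW (mul_mem ha.1 ha.1) (by
        rw [s.D.ρ_mul _ (le_normalizer ha.1) _ (le_normalizer ha.1)]
        exact (f3 _ (SymA.mem_pre.1 ha.2).2).1))
      rw [← this, show 2 ^ 2 = 2 + 2 from rfl, pow_add, pow_two]⟩)
    (fun a ha => ⟨ha.2, SymA.mem_pre.2 ⟨s.TM ha.1, s.iv_of fix ha.2 ha.1⟩⟩) inf_le_left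
  exact (h1.le ⟨hk, SymA.mem_pre.2 ⟨le_normalizer hk, h⟩⟩).1

theorem liftT {σ : P5} (h : IV σ) : ∃ t ∈ T, t ∈ K ∧ s.D.ρ t = σ :=
  let ⟨k, hk, e⟩ := s.lift (f3 _ h).2.1; ⟨k, s.mem_T fix hk (e ▸ h), hk, e⟩

theorem ψ_cases (hw : w ∈ W) (h : ∀ t ∈ T, t ∈ K → t * w = w * t) :
    s.D.ψ w = 0 ∨ s.D.ψ w = v4 := by
  obtain ⟨-, -, -, -, -, -, i1, i2, -, n1, n2, -, n⟩ := f17
  obtain ⟨a, ha, ha', ea⟩ := s.liftT fix i1
  obtain ⟨b, hb, hb', eb⟩ := s.liftT fix i2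
  exact f6 i1 i2 n1 n2 n _ (s.D.ψ_sum w hw) (ea ▸ s.fx_of_comm (s.TM ha) hw (h a ha ha'))
    (eb ▸ s.fx_of_comm (s.TM hb) hw (h b hb hb'))

theorem exists_v {g : G} (hg : g ∈ normalizer (T : Set G)) (hg' : g ∉ normalizer (K : Set G)) :
    ∃ n ∈ normalizer (T : Set G), ∃ w ∈ W, ¬ IV (s.D.ρ (n * w * n⁻¹)) := by
  by_contra! hh
  have hT : ∀ n ∈ normalizer (T : Set G), ∀ w ∈ W, n * w * n⁻¹ ∈ T := fun n hn w hw => cjm hn (s.WT hw)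
  set X : Subgroup G := ⨆ n : normalizer (T : Set G), conjS (n : G) W with hX
  have h1 : X ≤ pCoreOf 2 H := iSup_le fun n => conjS_le_iff_forall.2 fun w hw =>
    s.TQ (hT n n.2 w hw) (s.lemB (fun w hw => ⟨s.TM (hT n n.2 w hw), hh n n.2 w hw⟩)
      (fun w hw => ⟨s.TM (hT _ (inv_mem n.2) w hw), hh _ (inv_mem n.2) w hw⟩) hw)
  have h2 : W ≤ X := (conjS_one W).ge.trans (le_iSup (fun n : normalizer (T : Set G) => conjS (n : G) W) 1)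
  have h3 : normalizer (T : Set G) ≤ normalizer (X : Set G) := fun m hm =>
    mem_normalizer_of_conjS_le (by
      rw [hX, conjS_iSup]
      exact iSup_le fun n => (conjS_mul m n W).ge.trans
        (le_iSup (fun n : normalizer (T : Set G) => conjS (n : G) W) (⟨m, hm⟩ * n)))
  refine hg' (s.ph.uniq X ((isPGroup_pCoreOf H).to_le h1) (fun e => s.ne (le_bot_iff.1 (e ▸ h2)))
    (s.le_of (fun k hk => mem_normalizer_of_conjS_le (conjS_le_iff_forall.2 fun a ha => ?_))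
      (le_normalizer.trans h3)) (h3 hg))
  rw [← inv_mul_cancel_right (k * a * k⁻¹) a]
  exact mul_mem (h2 (s.QK hk (h1 ha))) ha

theorem x_comm (hx : x ∈ K) (h3 : x ^ 3 = 1) (ex : s.D.ρ x = xx) (hu : u ∈ pCoreOf 2 H)
    (h : ∀ t ∈ T, t * u = u * t) : x * u = u * x := by
  have hc := s.QK hx hu
  refine comm_of_cube h3 rfl (s.sq hc) (s.fixW hx h3 hc ?_)
  have := s.ψ_cases fix hc fun t ht hk => by
    have h1 : x⁻¹ * t * x ∈ T := s.mem_T fix (mul_mem (mul_mem (inv_mem hx) hk) hx) (by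
      rw [s.D.ρ_mul _ (le_normalizer (mul_mem (inv_mem hx) hk)) _ (le_normalizer hx),
        s.D.ρ_mul _ (le_normalizer (inv_mem hx)) _ (le_normalizer hk), s.D.ρ_inv (le_normalizer hx), ex]
      exact (f3 _ (s.iv_of fix hk ht)).2.2.2.1)
    calc t * (x * u * x⁻¹ * u⁻¹) = x * (x⁻¹ * t * x * u) * x⁻¹ * u⁻¹ := by group
      _ = x * u * x⁻¹ * u⁻¹ * (u * t) * u⁻¹ := by rw [h _ h1]; group
      _ = x * u * x⁻¹ * u⁻¹ * t := by rw [← h t ht]; group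
  rcases this with e | e <;> rw [e, ex]
  · exact fun _ => rfl
  · exact (f16 _).2 f17.2.1

variable {g : G} (hg : g ∈ normalizer (T : Set G)) (hw : w ∈ W) (hv : ¬ IV (s.D.ρ (g * w * g⁻¹)))
include hg hw hv

theorem D_bot : cen (pCoreOf 2 H) K = ⊥ := by
  by_contra h0
  obtain ⟨⟨d, ⟨dQ, dK⟩, dT⟩, d1⟩ := ne_bot_iff_exists_ne_one.1 (inf_centralizer_ne_bot
    (isPGroup_pCoreOf (p := 2) H).to_inf_left s.ph.syl.isPGroup (le_normalizer_inf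
      (s.ph.syl.le.trans (le_normalizer_pCoreOf H)) (le_normalizer_centralizer s.TM)) h0)
  have h1 : centralizer (zpowers d : Set G) ≤ normalizer (K : Set G) :=
    (centralizer_le_normalizer _).trans (s.ph.uniq _ (pg_zpowers (isPGroup_pCoreOf H) dQ)
      (fun e => d1 (Subtype.ext (zpowers_eq_bot.1 e))) ((s.le_of (le_centralizer_iff.1 (zpowers_le.2 dK))
        (le_centralizer_iff.1 (zpowers_le.2 dT))).trans (centralizer_le_normalizer _)))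
  obtain ⟨x, hx, h3, ex⟩ := s.exists_x
  have h2 : ∀ t ∈ T, t * (g * d * g⁻¹) = g * d * g⁻¹ * t := fun t ht => by
    calc t * (g * d * g⁻¹) = g * (g⁻¹ * t * g * d) * g⁻¹ := by group
      _ = g * d * g⁻¹ * t := by rw [mem_cent.1 dT _ (cjm' hg ht)]; group
  have h4 := s.x_comm fix hx h3 ex (s.TQ (cjm hg (s.QT dQ)) (mem_cent.2 fun a ha => h2 a (s.WT ha))) h2
  have h5 : g⁻¹ * x * g ∈ normalizer (K : Set G) := h1 (by
    rw [cent_zpowers, mem_cent1]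
    calc g⁻¹ * x * g * d = g⁻¹ * (x * (g * d * g⁻¹)) * g := by group
      _ = d * (g⁻¹ * x * g) := by rw [h4]; group)
  have h6 := s.cm hw (s.cj h5 hw)
  have hT := cjm hg (s.WT hw)
  have hM := s.TM hT
  have hM' := mul_mem (mul_mem (le_normalizer hx) hM) (inv_mem (le_normalizer hx))
  refine hv (f5 _ (fix _ hT) ?_ ?_)
  · rw [← s.D.ρ_mul _ hM _ hM, conj_mul, s.sq hw, mul_one, mul_inv_cancel, s.D.ρ_one]
  · rw [← ex, ← s.D.ρ_conj (le_normalizer hx) hM, ← s.D.ρ_mul _ hM _ hM', ← s.D.ρ_mul _ hM' _ hM]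
    congr 1
    calc g * w * g⁻¹ * (x * (g * w * g⁻¹) * x⁻¹)
        = g * (w * (g⁻¹ * x * g * w * (g⁻¹ * x * g)⁻¹)) * g⁻¹ := by group
      _ = _ := by rw [h6]; group

theorem inj {a : G} (ha : a ∈ W) (h : s.D.ψ a = 0) : a = 1 :=
  have := (s.D.ψ_eq_zero a ha).1 h
  mem_bot.1 ((s.D_bot fix hg hw hv).le ⟨s.WQ this.1, this.2⟩)

theorem inj' {a b : G} (ha : a ∈ W) (hb : b ∈ W) (h : s.D.ψ a = s.D.ψ b) : a = b :=
  inv_mul_eq_one.1 (s.inj fix hg hw hv (mul_mem (inv_mem ha) hb) (by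
    rw [s.D.ψ_mul _ (inv_mem ha) _ hb, s.D.ψ_inv ha, h, zmod2_add_self]))

theorem Q_le : pCoreOf 2 H ≤ W := fun u hu => by
  obtain ⟨y, hy, h⟩ := s.exists_cob hu
  have : y⁻¹ * u = 1 := mem_bot.1 ((s.D_bot fix hg hw hv).le ⟨(pCoreOf 2 H).mul_mem (inv_mem (s.WQ hy)) hu,
    mem_cent.2 fun k hk => by
      have h1 := s.inj' fix hg hw hv (s.QK hk hu) (s.QK hk (s.WQ hy)) (h k hk)
      have h2 := mem_cent.1 (s.cQ hu) y hy
      calc k * (y⁻¹ * u) = (k * y * k⁻¹)⁻¹ * (k * u * k⁻¹ * u⁻¹) * u * k := by group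
        _ = y⁻¹ * u * k := by rw [h1]; group⟩)
  rw [← inv_mul_eq_one.1 this]; exact hy

theorem two_mem {X : Subgroup G} (hX : IsPGroup 2 X) (hy : y ∈ X)
    (hc : y ∈ centralizer (W : Set G)) : y ∈ W :=
  s.Q_le fix hg hw hv (s.toQ (S := zpowers y ⊔ W) (isPGroup_sup (pg_zpowers hX hy) s.pW
    (zpowers_le.2 (centralizer_le_normalizer _ hc))) ((s.Q_le fix hg hw hv).trans le_sup_right)
    (sup_le (zpowers_le.2 hc) s.WC) (mem_sup_left (mem_zpowers y)))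

end Sit

end CfsgLib.CGT2.PA5
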