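import Mathlib
import Cfsg.Agent.Lib.CGT2.PDefs
import Cfsg.Agent.Lib.CGT2.PSr
import Cfsg.Agent.Lib.CGT2.PA5a

/-!
Package A5: pushing up an `A₅`-block (see `plans/CGT3.md`).
-/

set_option autoImplicit false
set_option linter.unusedSectionVars false

namespace CfsgLib.CGT2

open Subgroup Cfsg CfsgLib.LAE CfsgLib.PLocal CfsgLib.Push CfsgLib.BHS CfsgLib.ZJ CfsgLib.SL2
  CfsgLib.Blocks CfsgLib.LocStr
open scoped commutatorElement

variable {G : Type*} [Group G] [Finite G]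

namespace PA5.Sit

open Equiv Cf

theorem main {H T K W : Subgroup G} (s : Sit H T K W) (fix : ∀ t ∈ T, s.D.ρ t 4 = 4) {g w : G}
    (hg : g ∈ normalizer (T : Set G)) (hw : w ∈ W) (hv : ¬ IV (s.D.ρ (g * w * g⁻¹))) :
    SectionalPRankLE 2 4 G := by
  have inj := fun {a b} => s.inj' fix hg hw hv (a := a) (b := b)
  have two := fun {X y} => s.two_mem fix hg hw hv (X := X) (y := y)
  obtain ⟨-, x4, -, v0, v1, v2, i1, i2, i3, n1, n2, -, n3⟩ := f17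
  obtain ⟨z, hz, ez⟩ := s.D.ψ_surj v4 v0
  have z1 : z ≠ 1 := fun e => v1 (by rw [← ez, e, s.D.ψ_one])
  have cz : ∀ m ∈ normalizer (K : Set G), m ∈ centralizer ({z} : Set G) ↔ s.D.ρ m 4 = 4 := by
    intro m hm
    rw [mem_cent1]
    refine ⟨fun e => (f16 _).1 (ez ▸ s.fx_of_comm hm hz e), fun e => ?_⟩
    have := s.mem_Z hm hz (ez ▸ (f16 _).2 e)
    exact mul_inv_eq_iff_eq_mul.1 (mul_inv_eq_one.1
      (mem_bot.1 ((s.D_bot fix hg hw hv).le ⟨s.WQ this.1, this.2⟩)))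
  have zz : ∀ a ∈ W, s.D.ψ a = 0 ∨ s.D.ψ a = v4 → a = 1 ∨ a = z := fun a ha h =>
    h.imp (s.inj fix hg hw hv ha) fun e => inj ha hz (e.trans ez.symm)
  have ZT : ∀ {X : Subgroup G} {a}, IsPGroup 2 X → a ∈ X → a ≠ 1 → (∀ t ∈ T, t * a = a * t) → a = z :=
    fun hX ha a1 h =>
      have hW := two hX ha (mem_cent.2 fun b hb => h b (s.WT hb))
      (zz _ hW (s.ψ_cases fix hW fun t ht _ => h t ht)).resolve_left a1
  have gz : g ∈ centralizer ({z} : Set G) := mem_cent1.2 (mul_inv_eq_iff_eq_mul.1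
    (ZT s.ph.syl.isPGroup (cjm hg (s.WT hz)) (by simpa using z1) fun t ht => by
      have h1 := cjm' hg ht
      calc t * (g * z * g⁻¹) = g * (g⁻¹ * t * g * z) * g⁻¹ := by group
        _ = g * z * g⁻¹ * t := by rw [mem_cent1.1 ((cz _ (s.TM h1)).2 (fix _ h1))]; group))
  obtain ⟨S, hS, hTS⟩ := exists_isSylowIn_ge s.ph.syl.isPGroup (le_top (a := T))
  have zc : S ≤ centralizer ({z} : Set G) := by
    obtain ⟨⟨d, dS, dC⟩, d1⟩ := ne_bot_iff_exists_ne_one.1 (LAE.inf_centralizer_ne_bot hS.isPGroup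
      hS.isPGroup le_normalizer fun e => s.ne (le_bot_iff.1 (e ▸ s.WT.trans hTS)))
    rw [← ZT hS.isPGroup dS (fun e => d1 (Subtype.ext e)) fun t ht => mem_cent.1 dC t (hTS ht)]
    exact fun a ha => mem_cent1.2 (mem_cent.1 dC a ha)
  have hC := s.ph.loc.cen z1 (s.sq hz)
  have CR := le_normalizer_pCoreOf (p := 2) (centralizer ({z} : Set G))
  have RC := pCoreOf_le (p := 2) (centralizer ({z} : Set G))
  have pR := isPGroup_pCoreOf (p := 2) (centralizer ({z} : Set G))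
  have cR : ∀ a ∈ centralizer ({z} : Set G), a ∈ centralizer (pCoreOf 2 (centralizer ({z} : Set G)) : Set G) →
      a ∈ pCoreOf 2 (centralizer ({z} : Set G)) := fun a h1 h2 => hC ⟨h1, h2⟩
  generalize pCoreOf 2 (centralizer ({z} : Set G)) = R at CR RC pR cR
  have RS : R ≤ S := hS.le_of_le_normalizer pR le_top (zc.trans CR)
  obtain ⟨x, hx, -, ex⟩ := s.exists_x
  have xM : x ∈ normalizer (K : Set G) := le_normalizer hx
  have xC := (cz x xM).2 (ex ▸ x4)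
  have iv : ∀ r ∈ R, r ∈ normalizer (K : Set G) → IV (s.D.ρ r) := fun r hr hm =>
    f4 _ ((cz r hm).1 (RC hr)) (s.e4 pR hr hm) (by
      have h1 := mul_mem (mul_mem xM hm) (inv_mem xM)
      rw [← ex, ← s.D.ρ_conj xM hm, ← s.D.ρ_mul _ hm _ h1]
      exact s.e4 pR (mul_mem hr (cjm (CR xC) hr)) (mul_mem hm h1))
  have WS : W ≤ S := s.WT.trans hTS
  have RM : R ≤ normalizer (K : Set G) := by
    by_contra hn
    have pP := hS.isPGroup.to_le (sup_le RS WS)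
    obtain ⟨y, hy, hyn, hyP⟩ := SetA.exists_norm (X := (R ⊔ W) ⊓ normalizer (K : Set G)) pP
      (lt_of_le_of_ne inf_le_left fun e => hn (le_sup_left.trans (e.ge.trans inf_le_right)))
    have ivP : ∀ p ∈ (R ⊔ W) ⊓ normalizer (K : Set G), p ∈ normalizer (K : Set G) ∧ IV (s.D.ρ p) := by
      rintro p ⟨h1, h2⟩
      obtain ⟨r, hr, a, ha, rfl⟩ := (mem_sup_iff_of_right_le_normalizer ((WS.trans zc).trans CR)).1 h1
      have h3 := (mul_mem_cancel_right (s.WM ha)).1 h2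
      exact ⟨h2, by rw [s.D.ρ_mul _ h3 _ (s.WM ha), s.ρW ha, mul_one]; exact iv r hr h3⟩
    have WP : W ≤ (R ⊔ W) ⊓ normalizer (K : Set G) := le_inf le_sup_right s.WM
    exact hyP ⟨hy, s.NW (mem_normalizer_of_conjS_le (conjS_le_iff_forall.2 fun a ha =>
      two pP (cjm hyn (WP ha)).1 (s.lemB (fun b hb => ivP _ (cjm hyn (WP hb)))
        (fun b hb => ivP _ (cjm (inv_mem hyn) (WP hb))) ha)))⟩
  have nWR : ¬ W ≤ R := fun h => hv (iv _ (cjm (CR gz) (h hw)) (RM (cjm (CR gz) (h hw))))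
  have memW : ∀ r ∈ R, s.D.ρ r = 1 → r ∈ W := fun r hr e => two pR hr ((s.ker r (RM hr)).1 e)
  have orb : ∀ r ∈ R, s.D.ρ r ≠ 1 → ∀ σ, IV σ → σ ≠ 1 →
      ∃ c : G, c * r * c⁻¹ ∈ R ∧ s.D.ρ (c * r * c⁻¹) = σ := fun r hr h σ h1 h2 => by
    rcases f14 (iv r hr (RM hr)) h1 h h2 with rfl | rfl | rfl
    · exact ⟨1, by simpa using hr, by simp⟩
    · exact ⟨x, cjm (CR xC) hr, by rw [s.D.ρ_conj xM (RM hr), ex]⟩
    · exact ⟨x * x, cjm (CR (mul_mem xC xC)) hr, by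
        rw [s.D.ρ_conj (mul_mem xM xM) (RM hr), s.D.ρ_mul _ xM _ xM, ex]⟩
  have surj : ∀ σ, IV σ → ∃ r ∈ R, s.D.ρ r = σ := fun σ h => by
    rcases eq_or_ne σ 1 with rfl | h1
    · exact ⟨1, one_mem _, s.D.ρ_one⟩
    obtain ⟨r, hr, h2⟩ : ∃ r ∈ R, s.D.ρ r ≠ 1 := by
      by_contra! hh
      exact nWR fun a ha => cR a (zc (WS ha))
        (le_centralizer_iff.1 (fun r hr => (s.ker r (RM hr)).1 (hh r hr) : R ≤ _) ha)
    exact let ⟨_, h3, e⟩ := orb r hr h2 σ h h1; ⟨_, h3, e⟩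
  have W8' : ∀ a ∈ W, s.D.ψ a 4 = 0 → a ∈ R := fun a ha h => by
    obtain ⟨v, h1, h2⟩ := f11 _ (s.D.ψ_sum a ha) h
    obtain ⟨b, hb, rfl⟩ := s.D.ψ_surj v h1
    have key : ∀ σ, IV σ → (∀ i, s.D.ψ b (σ⁻¹ i) + s.D.ψ b i = s.D.ψ a i) → a ∈ R := fun σ h3 h4 => by
      obtain ⟨r, hr, rfl⟩ := surj σ h3
      rw [← inj (commutator_mem_of_normalizer (s.D.norm (RM hr)) hb) ha
        (funext fun i => (s.D.ψ_commutator (RM hr) hb i).trans (h4 i)), commutatorElement_def,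
        mul_assoc, mul_assoc, ← mul_assoc b]
      exact mul_mem hr (cjm (CR (zc (WS hb))) (inv_mem hr))
    exact h2.elim (key _ i1) (·.elim (key _ i2) (key _ i3))
  have W8 : ∀ a ∈ W, a ∈ R → s.D.ψ a 4 = 0 := fun a ha h => by_contra fun h0 => nWR fun b hb =>
    by_contra fun h1 => h1 ((mul_mem_cancel_left h).1 (W8' _ (mul_mem ha hb) (by
      rw [s.D.ψ_mul _ ha _ hb, Pi.add_apply, (zmod2_cases' _).resolve_left h0,
        (zmod2_cases' _).resolve_left (mt (W8' b hb) h1)]; rfl)))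
  have cen8 : ∀ y ∈ normalizer (K : Set G), (∀ a ∈ W, a ∈ R → y * a = a * y) → s.D.ρ y = 1 :=
    fun y hy h => f12 _ fun u h1 h2 => by
      obtain ⟨a, ha, rfl⟩ := s.D.ψ_surj u h1
      exact s.fx_of_comm hy ha (h a ha (W8' a ha h2))
  obtain ⟨r0, hr0, sq0, ne0⟩ : ∃ r ∈ R, r * r = 1 ∧ s.D.ρ r ≠ 1 := by
    by_contra! hh
    have h1 : g ∈ normalizer ((R ⊓ W : Subgroup G) : Set G) :=
      mem_normalizer_of_conjS_le (conjS_le_iff_forall.2 fun a ha =>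
        have h2 := cjm (CR gz) ha.1
        ⟨h2, memW _ h2 (hh _ h2 (by rw [conj_mul, s.sq ha.2, mul_one, mul_inv_cancel]))⟩)
    refine hv (.inl (cen8 _ (s.TM (cjm hg (s.WT hw))) fun a ha ha' => ?_))
    calc g * w * g⁻¹ * a = g * (w * (g⁻¹ * a * g)) * g⁻¹ := by group
      _ = a * (g * w * g⁻¹) := by rw [s.cm hw (cjm' h1 (⟨ha', ha⟩ : a ∈ R ⊓ W)).2]; group
  have zp : ∀ {a}, a = 1 ∨ a = z → a ∈ zpowers z := fun h =>
    h.elim (· ▸ one_mem _) (· ▸ mem_zpowers _)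
  refine sr_of_extra hS RS (zc.trans CR) ?_ (W8' z hz (ez ▸ v2)) z1 (s.sq hz) zc
    (fun r hr => zp ?_) fun c hc => zp ?_
  · set f : R →* P5 := s.D.ρh.comp (inclusion RM)
    have e1 : f.range = VV := le_antisymm (by rintro _ ⟨r, rfl⟩; exact iv r r.2 (RM r.2)) fun σ h =>
      let ⟨r, hr, e⟩ := surj σ h; ⟨⟨r, hr⟩, e⟩
    have m : ∀ r : f.ker, ((r : R) : G) ∈ W := fun r => memW _ r.1.2 r.2
    have e2 : Nat.card f.ker = 8 := f15 ▸ Nat.card_eq_of_bijective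
      (fun r : f.ker => (⟨s.D.ψ r.1.1, s.D.ψ_sum _ (m r), W8 _ (m r) r.1.2⟩ :
        {u : V5 // ∑ i, u i = 0 ∧ u 4 = 0}))
      ⟨fun a b e => Subtype.ext (Subtype.ext (inj (m a) (m b) (congrArg Subtype.val e))), fun u => by
        obtain ⟨a, ha, e⟩ := s.D.ψ_surj u.1 u.2.1
        exact ⟨⟨⟨a, W8' a ha (e ▸ u.2.2)⟩, s.ρW ha⟩, Subtype.ext e⟩⟩
    rw [← f.ker.card_mul_index, e2, index_ker, e1]
    exact congrArg (8 * ·) f15'
  · rcases eq_or_ne (s.D.ρ r) 1 with e | e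
    · exact .inl (s.sq (memW r hr e))
    obtain ⟨c, h1, e'⟩ := orb r0 hr0 ne0 _ (iv r hr (RM hr)) e
    have h2 : c * r0 * c⁻¹ * (c * r0 * c⁻¹) = 1 := by rw [conj_mul, sq0, mul_one, mul_inv_cancel]
    generalize c * r0 * c⁻¹ = r1 at h1 e' h2
    have h3 := mul_mem (inv_mem h1) hr
    have h4 := memW _ h3 (by rw [s.D.ρ_mul _ (inv_mem (RM h1)) _ (RM hr), s.D.ρ_inv (RM h1), e',
      inv_mul_cancel])
    have h5 : r * r = ⁅r1, r1⁻¹ * r⁆ := by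
      rw [commutatorElement_def, inv_eq_of_mul_eq_one_right (s.sq h4), mul_inv_cancel_left,
        mul_assoc, inv_eq_of_mul_eq_one_right h2, ← mul_assoc r1, h2, one_mul]
    rw [h5]
    refine zz _ (commutator_mem_of_normalizer (s.D.norm (RM h1)) h4)
      ((f13 (iv _ h1 (RM h1)) _ (s.D.ψ_sum _ h4) (W8 _ h4 h3)).imp (fun h => ?_) fun h => ?_) <;>
      exact funext fun i => (s.D.ψ_commutator (RM h1) h4 i).trans (h i)
  · have h1 := cR c (zc hc.1) hc.2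
    have h2 := memW c h1 (cen8 c (RM h1) fun a _ ha => (mem_cent.1 hc.2 a ha).symm)
    obtain ⟨a, ha, ea⟩ := surj _ i1
    obtain ⟨b, hb, eb⟩ := surj _ i2
    exact zz c h2 (f6 i1 i2 n1 n2 n3 _ (s.D.ψ_sum c h2)
      (ea ▸ s.fx_of_comm (RM ha) h2 (mem_cent.1 hc.2 a ha))
      (eb ▸ s.fx_of_comm (RM hb) h2 (mem_cent.1 hc.2 b hb)))

end PA5.Sit

theorem PH.sym {H T K : Subgroup G} (h : PH H T K) (b : Blk0 2 K) (s : SymB 2 K) {g : G}
    (hg : g ∈ normalizer (T : Set G)) (hg' : g ∉ normalizer (K : Set G)) :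
    SectionalPRankLE 2 4 G := by
  obtain ⟨t⟩ := PA5.nonempty_sit h b s
  obtain ⟨c, hc⟩ := (SymA.isPGroup_img t.D h.syl.isPGroup).nonempty_fixed_point_of_prime_not_dvd_card
    (Fin 5) (by simp)
  obtain ⟨σ, h1, h2⟩ := PA5.f10 c
  obtain ⟨k, hk, rfl⟩ := t.lift h1
  have kM : k ∈ normalizer (K : Set G) := le_normalizer hk
  let t' : PA5.Sit H (conjS k⁻¹ T) K (pCoreOf 2 K) :=
    { t with ph := { h with syl := h.syl.conj_of_mem (t.KH (inv_mem hk)) } }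
  have fix : ∀ a ∈ conjS k⁻¹ T, t'.D.ρ a 4 = 4 := fun a ha => by
    obtain ⟨y, hy, rfl⟩ := exists_of_mem_conjS ha
    have : t.D.ρ y c = c := hc ⟨_, t.D.ρ_mem_img (t.TM hy) hy⟩
    show t.D.ρ _ 4 = 4
    rw [t.D.ρ_conj (inv_mem kM) (t.TM hy), t.D.ρ_inv kM, inv_inv, Equiv.Perm.mul_apply,
      Equiv.Perm.mul_apply, h2, this, Equiv.Perm.inv_eq_iff_eq, h2]
  obtain ⟨n, hn, w, hw, hv⟩ := t'.exists_v fix (g := k⁻¹ * g * k⁻¹⁻¹)
    (conjS_normalizer k⁻¹ T ▸ conj_mem_conjS.2 hg) fun e => hg' (by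
      rwa [mul_mem_cancel_right (inv_mem (inv_mem kM)), mul_mem_cancel_left (inv_mem kM)] at e)
  exact t'.main fix hn hw hv

end CfsgLib.CGT2
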