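import Mathlib
import Cfsg.Agent.Lib.CGT2.PSub

/-!
Package EQB: no outer 2-elements when `|A ⊓ A'| ≥ 8` (see `plans/CGT3.md`).
-/

set_option autoImplicit false
set_option linter.unusedSectionVars false

namespace CfsgLib.CGT2

open Subgroup Cfsg CfsgLib.LAE CfsgLib.PLocal CfsgLib.Push CfsgLib.BHS CfsgLib.ZJ CfsgLib.SL2
  CfsgLib.Blocks CfsgLib.LocStr
open scoped commutatorElement

variable {G : Type*} [Group G] [Finite G]

namespace EqB

open Cf ScA

theorem two_dvd {n : ℕ} (h : ¬ n.Coprime 2) : 2 ∣ n := by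
  rwa [Nat.coprime_comm, Nat.prime_two.coprime_iff_not_dvd, not_not] at h

theorem exists_invol {y : G} (h : ¬ (orderOf y).Coprime 2) : ∃ t ∈ zpowers y, t ≠ 1 ∧ t * t = 1 := by
  obtain ⟨k, hk⟩ := two_dvd h
  have h0 := orderOf_pos y
  exact ⟨y ^ k, npow_mem_zpowers y k, pow_ne_one_of_lt_orderOf (by omega) (by omega), by
    rw [← pow_add, ← two_mul, ← hk, pow_orderOf_eq_one]⟩

theorem exists_ppart (p : ℕ) [hp : Fact p.Prime] (x : G) :
    ∃ m, ¬ p ∣ m ∧ IsPGroup p (zpowers (x ^ m)) := by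
  obtain ⟨k, m, h1, h2⟩ := Nat.exists_eq_pow_mul_and_not_dvd (orderOf_pos x).ne' p hp.out.ne_one
  refine ⟨m, h1, isPGroup_iff_forall_mem.2 ?_⟩
  rintro _ ⟨n, rfl⟩
  refine ⟨k, ?_⟩
  rw [← zpow_natCast, ← zpow_mul, mul_comm, zpow_mul, zpow_natCast, ← pow_mul, mul_comm, ← h2,
    pow_orderOf_eq_one, one_zpow]

/-- An involution normalizing a group of even order centralizes a nontrivial 2-element of it. -/
theorem exists_comm {N : Subgroup G} {t y : G} (ht : t * t = 1) (hn : t ∈ normalizer (N : Set G))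
    (hy : y ∈ N) (he : ¬ (orderOf y).Coprime 2) :
    ∃ u ∈ N, u ≠ 1 ∧ IsPGroup 2 (zpowers u) ∧ u ∈ centralizer ({t} : Set G) := by
  obtain ⟨S, hS, h1⟩ := exists_isSylowIn_ge (pg_of_sq ht) (zpowers_le.2 hn)
  have h2 := hS.inf_of_normal le_normalizer le_rfl
  have h4 := inf_centralizer_ne_bot h2.isPGroup (pg_of_sq ht)
    (le_normalizer_inf (h1.trans le_normalizer) (zpowers_le.2 hn))
    (h2.ne_bot ((two_dvd he).trans (Subgroup.orderOf_dvd_natCard N hy)))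
  obtain ⟨u, hu, h5⟩ := (bot_or_exists_ne_one _).resolve_left h4
  exact ⟨u, hu.1.2, h5, pg_zpowers h2.isPGroup hu.1, cent_zpowers t ▸ hu.2⟩

theorem pow_conj {F : Type} [Field F] {π : G → F} {X : Subgroup G} {x : G} {c : F}
    (hx : x ∈ normalizer (X : Set G)) (h : ∀ a ∈ X, π (x * a * x⁻¹) = c * π a) (k : ℕ) :
    ∀ a ∈ X, π (x ^ k * a * (x ^ k)⁻¹) = c ^ k * π a := by
  induction k with
  | zero => simp
  | succ k ih =>
    intro a ha
    rw [pow_succ' c, mul_assoc c, ← ih a ha, ← h _ (cjm (pow_mem hx k) ha), pow_succ']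
    congr 1; group

theorem eq_zero {F : Type} [Field F] {c t : F} (hc : c ≠ 1) (h : t = c * t) : t = 0 := by
  refine (mul_eq_zero.1 ?_).resolve_left (sub_ne_zero.2 hc)
  linear_combination -h

section half

variable {F : Type} [Field F] [Fintype F] {B L W A A' : Subgroup G} (h : Half F B L W A A')
include h

theorem ti {l b : G} (hl : l ∈ L) (hl' : l ∉ normalizer (B : Set G)) (hb : b ∈ B)
    (hb' : l⁻¹ * b * l ∈ normalizer (B : Set G)) : b ∈ A := by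
  obtain ⟨s, hs⟩ := mem_upU.1 (h.a.φ_mem hb)
  have hbL := h.a.le hb
  rw [← h.A_eq, ← h.a.φ_eq_one hbL, hs, uu_eq_one_iff]
  by_contra h0
  refine hl' ((h.a.mem_borel hl).1 (mem_borel_of_conj_uu h0 ?_))
  rwa [← h.a.mem_borel (mul_mem (mul_mem (inv_mem hl) hbL) hl), h.a.D.φ_mul (mul_mem (inv_mem hl) hbL) hl,
    h.a.D.φ_mul (inv_mem hl) hbL, h.a.D.φ_inv hl, hs] at hb'

theorem trans {l m : G} (hl : l ∈ L) (hl' : l ∉ normalizer (B : Set G)) (hm : m ∈ L)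
    (hm' : m ∉ normalizer (B : Set G)) : ∃ b ∈ B, l⁻¹ * b * m ∈ normalizer (B : Set G) := by
  obtain ⟨c, β, hβ, e⟩ := bruhat (mt (h.a.mem_borel hl).1 hl')
  obtain ⟨c', β', hβ', e'⟩ := bruhat (mt (h.a.mem_borel hm).1 hm')
  obtain ⟨b, hbL, hb, e1⟩ := h.a.D.mem_img.1 (h.a.img ▸ mul_mem (uu_mem c) (inv_mem (uu_mem c')))
  refine ⟨b, hb, ?_⟩
  rw [← h.a.mem_borel (mul_mem (mul_mem (inv_mem hl) hbL) hm), h.a.D.φ_mul (mul_mem (inv_mem hl) hbL) hm,
    h.a.D.φ_mul (inv_mem hl) hbL, h.a.D.φ_inv hl, e, e', e1]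
  have := mul_mem (inv_mem hβ) hβ'
  convert this using 1
  group

theorem of_le_L {y : G} (hy : conjS y B ≤ L) :
    A ≤ conjS y B ∧ ∀ b ∈ B, b ∈ conjS y B → b ∉ A → conjS y B = B := by
  obtain ⟨l, hl, h1⟩ := h.a.sylow.exists_le_conj (isPGroup_conjS h.a.two y) hy
  rw [eq_of_le_of_card_ge h1 (by rw [card_conjS, card_conjS])]
  refine ⟨fun a ha => mem_conjS.2 (h.A_le (cjm' (h.normA hl) ha)), fun b hb h2 h3 => ?_⟩
  by_contra h4
  exact h3 (ti h hl (mt mem_normalizer_iff_conjS.1 h4) hb (le_normalizer (mem_conjS.1 h2)))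

end half

/-- The two properties of a torus element. -/
def Tor (B A L : Subgroup G) (x : G) : Prop :=
  (∀ b ∈ B, x * b * x⁻¹ * b⁻¹ ∈ A → b ∈ A) ∧ ∀ b ∈ B, x * b * x⁻¹ = b → b ∈ cen A L

section one

variable {F : Type} [Field F] [Fintype F] {T B L W A A' H : Subgroup G} (h : Cfg1 F T B L W A A')
  (s : IsSylowIn 2 B H)
include h s

omit h in
theorem memB {x : G} (h1 : x ∈ normalizer (B : Set G)) (h2 : x ∈ H) (h3 : IsPGroup 2 (zpowers x)) :
    x ∈ B := s.le_of_normalizes h3 (zpowers_le.2 h2) (zpowers_le.2 h1) (mem_zpowers x)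

theorem normA {x : G} (hx : x ∈ normalizer (B : Set G) ⊓ H) : x ∈ normalizer (A : Set G) := by
  obtain ⟨m, h1, h2⟩ := exists_ppart 2 x
  exact mem_of_pow_mem_of_pow_mem (Nat.prime_two.coprime_iff_not_dvd.2 h1)
    (by rw [sq]; exact (h.sq_mem_K hx.1).2) (h.B_normA (memB s (pow_mem hx.1 m) (pow_mem hx.2 m) h2))

variable (hL : L ≤ H) {p : ℕ} [hp : Fact p.Prime] (p2 : p ≠ 2) (hq : p ∣ Fintype.card F - 1)
  {P : Subgroup G} (hP : IsSylowIn p P (normalizer (B : Set G) ⊓ H))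
include hL p2 hq hP

theorem exists_tor : ∃ x ∈ P, Tor B A L x := by
  classical
  obtain ⟨c⟩ := h.exists_coord
  obtain ⟨u, hu⟩ := exists_prime_orderOf_dvd_card (G := Fˣ) p (by rwa [Fintype.card_units])
  obtain ⟨x, hx, hxL, -, hγ, hε⟩ := c.torus u u.ne_zero
  replace hxL := h.a.EL hxL
  obtain ⟨m, hm, hx2⟩ := exists_ppart p x
  have hσ := c.σ_of_mem x hx hxL
  have u1 : (u : F) ^ m ≠ 1 := fun e => hm (hu ▸ orderOf_dvd_of_pow_eq_one (Units.ext (by simpa using e)))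
  have u2 : ((u : F) ^ 2) ^ m ≠ 1 := fun e => by
    have : p ∣ 2 * m := hu ▸ orderOf_dvd_of_pow_eq_one (Units.ext (by simpa [pow_mul] using e))
    exact (hp.out.dvd_mul.1 this).elim
      (fun e => p2 ((Nat.prime_dvd_prime_iff_eq hp.out Nat.prime_two).1 e)) hm
  have t1 := pow_conj (π := c.τ) (c := (u : F) ^ 2) hx.1 (fun b hb => by rw [c.τ_conj x hx b hb, hσ, hγ]) m
  have t2 := pow_conj (π := c.α) (c := (u : F)⁻¹) hx.2 (fun b hb => by rw [c.α_conj x hx b hb, hσ, hε]) m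
  have t3 := pow_conj (π := c.δ) (c := u) (h.toHalf.norm_D hx.1) (fun b hb => by
    rw [c.δ_conj x hx b hb, hσ, hγ, hε, sq, mul_inv_cancel_right₀ u.ne_zero]) m
  have k1 : ∀ b ∈ B, x ^ m * b * (x ^ m)⁻¹ * b⁻¹ ∈ A → b ∈ A := fun b hb e => by
    have := c.τ_mul _ (h.toHalf.A_le e) b hb
    rw [inv_mul_cancel_right, (c.τ_zero _ (h.toHalf.A_le e)).2 e, zero_add, t1 b hb] at this
    exact (c.τ_zero b hb).1 (eq_zero u2 this.symm)
  have k2 : ∀ b ∈ B, x ^ m * b * (x ^ m)⁻¹ = b → b ∈ cen A L := fun b hb e => by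
    have a1 := k1 b hb (by rw [e, mul_inv_cancel]; exact one_mem _)
    have a2 := (c.α_zero b a1).1 (eq_zero (c := (u : F)⁻¹ ^ m) (by rwa [inv_pow, Ne, inv_eq_one])
      (by rw [← t2 b a1, e]))
    exact (c.δ_zero b a2).1 (eq_zero u1 (by rw [← t3 b a2, e]))
  obtain ⟨n, hn, h1⟩ := hP.exists_conj_le hx2 (zpowers_le.2 (pow_mem (mem_inf.2 ⟨hx.1, hL hxL⟩) m))
  have nA := normA h s hn
  refine ⟨_, h1 (conj_mem_conjS.2 (mem_zpowers _)), fun b hb e => ?_, fun b hb e => ?_⟩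
  · have := cjm nA (k1 _ (cjm' hn.1 hb) (by convert cjm' nA e using 1; group))
    convert this using 1; group
  · have := cjm (mem_normalizer_cen nA (h.normL nA)) (k2 _ (cjm' hn.1 hb) (by
      conv_rhs => rw [← e]
      group))
    convert this using 1; group

theorem exists_fix : ∃ l ∈ L, l ∉ normalizer (B : Set G) ∧ ∀ x ∈ P, l⁻¹ * x * l ∈ normalizer (B : Set G) := by
  obtain ⟨l, hl, hl'⟩ := h.a.exists_not_norm
  have key : ∀ n ∈ normalizer (B : Set G) ⊓ H, n * l * n⁻¹ ∈ L ∧ n * l * n⁻¹ ∉ normalizer (B : Set G) :=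
    fun n hn => ⟨cjm (h.normL (normA h s hn)) hl, fun e => hl' (by
      have := cjm' (le_normalizer hn.1) e
      convert this using 1; group)⟩
  set S := normalizer (B : Set G) ⊓ H ⊓ conjS l (normalizer (B : Set G)) with hS
  have hSB : S ≤ normalizer (B : Set G) := inf_le_left.trans inf_le_left
  have e : S ⊔ B = normalizer (B : Set G) ⊓ H := by
    refine le_antisymm (sup_le inf_le_left (le_inf le_normalizer s.le)) fun n hn => ?_
    obtain ⟨b, hb, h1⟩ := trans h.toHalf hl hl' (key n hn).1 (key n hn).2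
    have h2 : b * n ∈ S := ⟨mul_mem (mem_inf.2 ⟨le_normalizer hb, s.le hb⟩) hn, mem_conjS.2 (by
      have := mul_mem h1 hn.1
      convert this using 1; group)⟩
    simpa using mul_mem (mem_sup_right (S := S) (inv_mem hb)) (mem_sup_left h2)
  obtain ⟨Q, hQ⟩ := exists_isSylowIn p S
  have h1 : IsSylowIn p Q (normalizer (B : Set G) ⊓ H) := by
    refine isSylowIn_of_not_dvd_relIndex (hQ.le.trans inf_le_left) hQ.isPGroup fun h2 => ?_
    rw [← relIndex_mul_relIndex _ S _ hQ.le inf_le_left] at h2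
    refine (hp.out.dvd_mul.1 h2).elim hQ.not_dvd_relIndex fun h3 => p2 ?_
    have e1 := card_sup_of hSB
    rw [e, card_of_le (H := S) inf_le_left, card_eq_relIndex_mul B S, mul_left_comm] at e1
    have e2 := Nat.eq_of_mul_eq_mul_left (Nat.pos_of_ne_zero relIndex_ne_zero') e1
    obtain ⟨k, hk⟩ := h.a.two.exists_card_eq
    exact (Nat.prime_dvd_prime_iff_eq hp.out Nat.prime_two).1
      (hp.out.dvd_of_dvd_pow (hk ▸ e2 ▸ h3.mul_right _))
  obtain ⟨n, hn, rfl⟩ := h1.exists_conj hP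
  refine ⟨_, (key n hn).1, (key n hn).2, fun x hx => ?_⟩
  have := cjm (le_normalizer hn.1) (mem_conjS.1 (hQ.le (mem_conjS.1 hx)).2)
  convert this using 1; group

theorem exists_even (hH : ∀ g : G, g ∈ normalizer (H : Set G)) :
    ∃ y ∈ H ⊓ normalizer (L : Set G) ⊓ normalizer (P : Set G), ¬ (orderOf y).Coprime 2 := by
  obtain ⟨l, hl, hl', h1⟩ := exists_fix h s hL p2 hq hP
  obtain ⟨x, hx, ht, -⟩ := exists_tor h s hL p2 hq hP
  obtain ⟨n, hn, h2⟩ := hP.exists_conj_le (isPGroup_conjS hP.isPGroup l⁻¹) (conjS_le_iff_forall.2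
    fun z hz => by rw [inv_inv]; exact ⟨h1 z hz, cjm' (hH l) (hP.le hz).2⟩)
  rw [← conjS_mul] at h2
  have h3 := mem_normalizer_of_conjS_le h2
  have nL := h.normL (normA h s hn)
  replace hn := mem_inf.1 hn
  refine ⟨n * l⁻¹, mem_inf.2 ⟨mem_inf.2 ⟨mul_mem hn.2 (inv_mem (hL hl)),
    mul_mem nL (inv_mem (le_normalizer hl))⟩, h3⟩, fun h4 => hl' ?_⟩
  suffices h5 : l * (n⁻¹ * l * n) ∈ normalizer (B : Set G) by
    have h6 : n * l⁻¹ ∈ normalizer (B : Set G) := mem_of_pow_mem_of_coprime h4 (by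
      have := mul_mem (mul_mem hn.1 hn.1) (inv_mem h5)
      convert this using 1; rw [sq]; group)
    simpa using inv_mem (mul_mem (inv_mem hn.1) h6)
  by_contra h5
  obtain ⟨b, hb, h6⟩ := trans h.toHalf hl hl' (mul_mem hl (cjm' nL hl)) h5
  have h7 := cjm (le_normalizer h6) (cjm' (le_normalizer hn.1) (h1 _ (cjm h3 hx)))
  have h8 : x * b * x⁻¹ * b⁻¹ ∈ A := ti h.toHalf hl hl' (mul_mem (cjm (hP.le hx).1 hb) (inv_mem hb)) (by
    have := mul_mem (h1 x hx) (inv_mem h7)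
    convert this using 1; group)
  have h9 := le_normalizer (h.toHalf.A_le (cjm' (h.toHalf.normA hl) (ht b hb h8)))
  refine hl' ?_
  have := cjm (le_normalizer hn.1) (mul_mem (inv_mem h9) h6)
  convert this using 1; group

end one

variable {F F' : Type} [Field F] [Fintype F] [Field F'] [Fintype F']
  {T B L W A L' W' A' : Subgroup G} (h : Cfg2 F F' T B L W A L' W' A')
  (h8 : 8 ≤ Nat.card (A ⊓ A' : Subgroup G))
include h h8

theorem syl0 : IsSylowIn 2 B (pResOf 2 (⊤ : Subgroup G)) :=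
  h.inf_res h8 ▸ h.syl.inf_of_normal le_top (le_normalizer_pResOf ⊤)

theorem uniq {b y : G} (hb : b ∈ B) (h1 : b * b ≠ 1) (h2 : b ∈ conjS y B) : conjS y B = B := by
  obtain ⟨-, -, -, ⟨h'⟩⟩ := h.nonempty_symm
  have h3 : conjS y B ≤ centralizer ({b * b} : Set G) := by
    have := conjS_le_cen (fun x hx => mem_cent1.2
      (h.toHalf.D_le_cen (h.toHalf.sq_mem (mem_conjS.1 h2)) x hx)) y
    convert this using 3; group
  rcases le_or h h8 (h.toHalf.sq_mem hb) h1 ((gen_B h.toCfg1).conj y) h3 with e | e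
  · exact (of_le_L h.toHalf e).2 b hb h2 fun e => h1 (sq_of_elem h.elemA e)
  · exact (of_le_L h'.toHalf e).2 b hb h2 fun e => h1 (sq_of_elem h.elemA' e)

theorem exists_over {t : G} (ht : t * t = 1) {Y : Subgroup G} (hY : IsPGroup 2 Y)
    (hc : Y ≤ centralizer ({t} : Set G) ⊓ pResOf 2 (⊤ : Subgroup G)) :
    ∃ y ∈ pResOf 2 (⊤ : Subgroup G), Y ≤ conjS y B ∧ y⁻¹ * t * y ∈ normalizer (B : Set G) := by
  obtain ⟨g, -, h1⟩ := h.syl.exists_le_conj (isPGroup_sup hY (pg_of_sq ht)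
    ((hc.trans inf_le_left).trans (cent_zpowers t ▸ centralizer_le_normalizer _))) le_top
  obtain ⟨r, hr, x, hx, rfl⟩ := h.syl.exists_mul (mem_top g)
  rw [conjS_mul, conjS_eq_of_mem hx] at h1
  exact ⟨r, hr, fun z hz => mem_conjS.2 ((h.inf_res h8).le ⟨mem_conjS.1 (h1 (mem_sup_left hz)),
    cjm' (le_normalizer hr) (hc hz).2⟩), h.T_le (mem_conjS.1 (h1 (mem_sup_right (mem_zpowers t))))⟩

omit h8 in
theorem le_D {t : G} (h1 : t ∈ normalizer (B : Set G)) (h2 : t ∉ normalizer (A : Set G))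
    {E : Subgroup G} (hE : E ≤ B) (h3 : ∀ e ∈ E, e * e = 1) (h4 : ∀ e ∈ E, t⁻¹ * e * t ∈ E) :
    E ≤ A ⊓ A' := by
  obtain ⟨e1, e2⟩ := h.swap h1 h2
  rcases h.toHalf.le_of_elem hE h3 with e | e
  · exact le_inf e fun x hx => e1 ▸ mem_conjS.2 (e (h4 x hx))
  · exact le_inf (fun x hx => e2 ▸ mem_conjS.2 (e (h4 x hx))) e

theorem uniq_swap {t y e : G} (h1 : t ∈ normalizer (B : Set G)) (h2 : t ∉ normalizer (A : Set G))
    (hy : y ∈ pResOf 2 (⊤ : Subgroup G)) (h3 : y⁻¹ * t * y ∈ normalizer (B : Set G)) (he : e ∈ B)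
    (he' : e ∈ conjS y B) (e1 : e ≠ 1) : conjS y B = B := by
  obtain ⟨-, -, -, ⟨h'⟩⟩ := h.nonempty_symm
  by_contra hne
  have h4 : ∀ x ∈ B ⊓ conjS y B, x * x = 1 := fun x hx => by_contra fun e => hne (uniq h h8 hx.1 e hx.2)
  have h5 : ∀ x ∈ B ⊓ conjS y B, t⁻¹ * x * t ∈ B ⊓ conjS y B := fun x hx => ⟨cjm' h1 hx.1, mem_conjS.2 (by
    have := cjm' h3 (mem_conjS.1 hx.2)
    convert this using 1; group)⟩
  have h6 := le_D h h1 h2 inf_le_left h4 h5
  have h7 : y⁻¹ * t * y ∉ normalizer (A : Set G) := fun e => h2 (by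
    have := normA h.toCfg1 (syl0 h h8) (x := y⁻¹ * t * y * t⁻¹) (mem_inf.2 ⟨mul_mem h3 (inv_mem h1), by
      have := mul_mem (inv_mem hy) (cjm (le_normalizer_pResOf ⊤ (mem_top t)) hy)
      convert this using 1; group⟩)
    have := mul_mem (inv_mem this) e
    convert this using 1; group)
  have h9 := le_D h h3 h7 (E := conjS y⁻¹ (B ⊓ conjS y B)) (conjS_le_iff.2 (by simp))
    (fun x hx => by
      have := congrArg (fun z => y⁻¹ * z * y) (h4 _ (mem_conjS.1 hx))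
      simpa [mul_assoc] using this)
    fun x hx => mem_conjS.2 (by
      have := h5 _ (mem_conjS.1 hx)
      convert this using 1; group)
  have h10 : conjS y B ≤ centralizer ({e} : Set G) := by
    have := conjS_le_cen (fun x hx => mem_cent1.2
      (h.toHalf.D_le_cen (h9 (conj_mem_conjS.2 (mem_inf.2 ⟨he, he'⟩))) x hx)) y
    convert this using 3; group
  rcases le_or h h8 (h6 ⟨he, he'⟩) e1 ((gen_B h.toCfg1).conj y) h10 with e | e
  · exact h.toHalf.not_le (((le_inf h.toHalf.A_le (of_le_L h.toHalf e).1).trans h6).trans inf_le_right)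
  · exact h.toHalf.not_le' (((le_inf h.toHalf.A'_le (of_le_L h'.toHalf e).1).trans h6).trans inf_le_left)

omit h h8 in
theorem char0 (hG : Loc G) {t : G} (h1 : t ≠ 1) (ht : t * t = 1) :
    IsCharP 2 (centralizer ({t} : Set G) ⊓ pResOf 2 (⊤ : Subgroup G)) :=
  (hG.cen h1 ht).of_normal inf_le_left
    (le_normalizer_inf le_normalizer (le_top.trans (le_normalizer_pResOf ⊤)))

/-- The core of the centralizer together with one more element lies in a conjugate of `B`. -/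
theorem core_over {t b : G} (ht : t * t = 1) (hb : b ∈ B) (hc : b ∈ centralizer ({t} : Set G)) :
    ∃ y ∈ pResOf 2 (⊤ : Subgroup G), b ∈ conjS y B ∧
      pCoreOf 2 (centralizer ({t} : Set G) ⊓ pResOf 2 (⊤ : Subgroup G)) ≤ conjS y B ∧
      y⁻¹ * t * y ∈ normalizer (B : Set G) := by
  have h1 : zpowers b ≤ centralizer ({t} : Set G) ⊓ pResOf 2 (⊤ : Subgroup G) :=
    zpowers_le.2 ⟨hc, (syl0 h h8).le hb⟩
  obtain ⟨y, hy, h2, h3⟩ := exists_over h h8 ht (isPGroup_sup (pg_zpowers h.a.two hb)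
    (isPGroup_pCoreOf _) (h1.trans (le_normalizer_pCoreOf _))) (sup_le h1 (pCoreOf_le _))
  exact ⟨y, hy, h2 (mem_sup_left (mem_zpowers b)), le_sup_right.trans h2, h3⟩

theorem not_swap {t u : G} (ht : t * t = 1) (h1 : t ∈ normalizer (B : Set G))
    (h2 : t ∉ normalizer (A : Set G)) (hu : u ∈ centralizer ({t} : Set G) ⊓ pResOf 2 (⊤ : Subgroup G))
    (hu' : u ∉ normalizer (B : Set G)) : False := by
  have t1 : t ≠ 1 := fun e => h2 (e ▸ one_mem _)
  obtain ⟨z, hz, z1⟩ := (bot_or_exists_ne_one _).resolve_left (inf_centralizer_ne_bot h.a.two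
    (pg_of_sq ht) (zpowers_le.2 h1) fun e => h.A_ne_bot (le_bot_iff.1 (e ▸ h.toHalf.A_le)))
  rw [cent_zpowers] at hz
  obtain ⟨y, hy, h3, h4, h5⟩ := core_over h h8 ht hz.1 hz.2
  rw [uniq_swap h h8 h1 h2 hy h5 hz.1 h3 z1] at h4
  have h6 : z ∈ pCoreOf 2 (centralizer ({t} : Set G) ⊓ pResOf 2 (⊤ : Subgroup G)) → False := fun e =>
    hu' (mem_normalizer_iff_conjS.2 (uniq_swap h h8 h1 h2 hu.2 (by
      rwa [mul_assoc, ← mem_cent1.1 hu.1, inv_mul_cancel_left]) hz.1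
      (mem_conjS.2 (h4 (cjm' (le_normalizer_pCoreOf _ hu) e))) z1))
  refine h6 ((char0 h.loc t1 ht).le_pCoreOf (K := zpowers z) (zpowers_le.2 ⟨hz.2, (syl0 h h8).le hz.1⟩)
    (zpowers_le.2 fun r hr => ?_) (mem_zpowers z))
  by_cases r1 : r = 1
  · simp [r1]
  · exact absurd (mem_normalizer_iff_conjS.2 (uniq_swap h h8 h1 h2 hu.2 (by
      rwa [mul_assoc, ← mem_cent1.1 hu.1, inv_mul_cancel_left]) (h4 hr)
      (mem_conjS.2 (h4 (cjm' (le_normalizer_pCoreOf _ hu) hr))) r1)) hu'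

omit h h8 in
theorem le_A {F : Type} [Field F] [Fintype F] {B L W A A' R : Subgroup G} (h : Half F B L W A A')
    (hR : R ≤ B) {u : G} (h1 : u ∈ normalizer (R : Set G)) (h2 : u ∈ normalizer (L : Set G))
    (h3 : u ∉ normalizer (B : Set G)) : R ≤ A := fun r hr => by
  obtain ⟨l, hl, n, hn, rfl⟩ := h.a.sylow.frattini h2
  refine ti h hl (fun e => h3 (mul_mem e hn)) (hR hr) ?_
  have := cjm (le_normalizer hn) (le_normalizer (hR (cjm' h1 hr)))
  convert this using 1; group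

omit h h8 in
theorem comm_cen {X : Subgroup G} (hX : IsElementaryAbelian 2 X) {t a : G} (ht : t * t = 1)
    (h1 : t ∈ normalizer (X : Set G)) (ha : a ∈ X) :
    t * a * t⁻¹ * a⁻¹ ∈ X ⊓ centralizer ({t} : Set G) := by
  have h2 := mul_mem (cjm h1 ha) (inv_mem ha)
  refine ⟨h2, mem_cent1.2 ?_⟩
  conv_lhs => rw [← inv_eq_of_mul_eq_one_right (sq_of_elem hX h2)]
  calc _ = a * t * a⁻¹ := by group
    _ = t * t * a * (t * t)⁻¹ * t * a⁻¹ := by rw [ht]; group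
    _ = _ := by group

theorem not_field {t u u' : G} (ht : t * t = 1) (h1 : t ∈ normalizer (B : Set G))
    (h2 : t ∈ normalizer (A : Set G)) (tB : t ∉ B)
    (hu : u ∈ centralizer ({t} : Set G) ⊓ pResOf 2 (⊤ : Subgroup G)) (uL : u ∈ normalizer (L : Set G))
    (uB : u ∉ normalizer (B : Set G))
    (hu' : u' ∈ centralizer ({t} : Set G) ⊓ pResOf 2 (⊤ : Subgroup G))
    (uL' : u' ∈ normalizer (L' : Set G)) (uB' : u' ∉ normalizer (B : Set G)) : False := by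
  obtain ⟨-, -, -, ⟨h'⟩⟩ := h.nonempty_symm
  obtain ⟨a, ha, a1⟩ : ∃ a ∈ A, t * a * t⁻¹ * a⁻¹ ∉ A ⊓ A' := by
    by_contra! hn
    exact tB (h.mem_B_of_A ⟨h1, h2⟩ (pg_of_sq ht) hn)
  obtain ⟨a', ha', a2⟩ : ∃ a ∈ A', t * a * t⁻¹ * a⁻¹ ∉ A := by
    by_contra! hn
    exact tB (h.mem_B_of_A' ⟨h1, h2⟩ (pg_of_sq ht) hn)
  have c1 := comm_cen h.elemA ht h2 ha
  have c2 := comm_cen h.elemA' ht ((h.normA_iff h1).1 h2) ha'
  generalize t * a * t⁻¹ * a⁻¹ = x at a1 c1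
  generalize t * a' * t⁻¹ * a'⁻¹ = x' at a2 c2
  have hb := mul_mem (h.toHalf.A_le c1.1) (h.toHalf.A'_le c2.1)
  have hc := mul_mem c1.2 c2.2
  have b2 : x * x' * (x * x') ≠ 1 := fun e => by
    rw [h.toHalf.sq_eq c1.1 c2.1, commutatorElement_eq_one_iff_mul_comm] at e
    exact (h.toHalf.mem_of_comm c1.1 (h.toHalf.A'_le c2.1) e).elim (fun e => a1 ⟨c1.1, e⟩) a2
  obtain ⟨y, -, h3, h4, -⟩ := core_over h h8 ht hb hc
  rw [uniq h h8 hb b2 h3] at h4
  have h5 := le_inf (le_A h.toHalf h4 (le_normalizer_pCoreOf _ hu) uL uB)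
    (le_A h'.toHalf h4 (le_normalizer_pCoreOf _ hu') uL' uB')
  have h6 := (char0 h.loc (fun e : t = 1 => tB (e ▸ one_mem _)) ht).le_pCoreOf (K := zpowers (x * x'))
    (zpowers_le.2 ⟨hc, (syl0 h h8).le hb⟩)
    (zpowers_le.2 fun r hr => (h.toHalf.D_le_cen (h5 hr) _ hb).symm) (mem_zpowers _)
  exact b2 (sq_of_elem h.elemA (h5 h6).1)

end EqB

open EqB Cf in
theorem Cfg2.eq_B' {F F' : Type} [Field F] [Fintype F] [Field F'] [Fintype F']
    {T B L W A L' W' A' : Subgroup G} (h : Cfg2 F F' T B L W A L' W' A')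
    (h8 : 8 ≤ Nat.card (A ⊓ A' : Subgroup G)) : T = B := by
  obtain ⟨hq, -, -, ⟨h'⟩⟩ := h.nonempty_symm
  refine le_antisymm (fun x hx => by_contra fun hxB => ?_) h.B_le
  have s := syl0 h h8
  have hH : ∀ g : G, g ∈ normalizer (pResOf 2 (⊤ : Subgroup G) : Set G) := fun g =>
    le_normalizer_pResOf ⊤ (mem_top g)
  obtain ⟨p, hp, hpq⟩ := Nat.exists_prime_and_dvd (n := Fintype.card F - 1) (by have := h.four; omega)
  have := Fact.mk hp
  have p2 : p ≠ 2 := by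
    rintro rfl
    obtain ⟨n, h1, h2⟩ := h.a.exists_card
    have : 2 ∣ Fintype.card F := h2 ▸ dvd_pow_self 2 (by omega)
    have := h.four
    omega
  obtain ⟨P, hP⟩ := exists_isSylowIn p (normalizer (B : Set G) ⊓ pResOf 2 (⊤ : Subgroup G))
  have free : ∀ u ∈ normalizer (P : Set G), u ∈ pResOf 2 (⊤ : Subgroup G) → IsPGroup 2 (zpowers u) →
      u ≠ 1 → u ∉ normalizer (B : Set G) := fun u h1 h2 h3 h4 h5 => by
    have hu := memB s h5 h2 h3
    have key : ∀ z ∈ P, z * u * z⁻¹ = u := fun z hz => by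
      have e1 : z * u * z⁻¹ * u⁻¹ ∈ B := mul_mem (cjm (hP.le hz).1 hu) (inv_mem hu)
      have e2 : z * u * z⁻¹ * u⁻¹ ∈ P := by
        have := mul_mem hz (cjm h1 (inv_mem hz))
        convert this using 1; group
      exact mul_inv_eq_one.1 (disjoint_def.1
        (IsPGroup.disjoint_of_ne 2 p p2.symm B P h.a.two hP.isPGroup) e1 e2)
    obtain ⟨z, hz, -, t1⟩ := exists_tor h.toCfg1 s h.le_res.1 p2 hpq hP
    obtain ⟨z', hz', -, t2⟩ := exists_tor h'.toCfg1 s h.le_res.2 p2 (hq ▸ hpq) hP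
    exact h4 (mem_bot.1 (h.triv.le ⟨t1 u hu (key z hz), t2 u hu (key z' hz')⟩))
  obtain ⟨n, hn, y, hy, e⟩ := hP.frattini (x := x) (le_normalizer_inf (L := zpowers x)
    (zpowers_le.2 (le_normalizer (h.T_le hx))) (zpowers_le.2 (hH x)) (mem_zpowers x))
  have yB : y ∈ normalizer (B : Set G) := by
    have := mul_mem (inv_mem (mem_inf.1 hn).1) (h.T_le hx)
    rwa [e, inv_mul_cancel_left] at this
  obtain ⟨t, h1, t1, ht⟩ := exists_invol (y := y) fun h1 => hxB ((h.inf_res h8).le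
    ⟨hx, e ▸ mul_mem hn.2 (mem_pResOf (mem_top y) h1)⟩)
  have tN := zpowers_le.2 yB h1
  have tP := zpowers_le.2 hy h1
  have tB : t ∉ B := fun e => free t tP (s.le e) (pg_of_sq ht) t1 tN
  obtain ⟨v, hv, v2⟩ := exists_even h.toCfg1 s h.le_res.1 p2 hpq hP hH
  obtain ⟨v', hv', v2'⟩ := exists_even h'.toCfg1 s h.le_res.2 p2 (hq ▸ hpq) hP hH
  have nn : ∀ {X Y : Subgroup G}, t ∈ normalizer (X : Set G) → t ∈ normalizer (Y : Set G) →
      t ∈ normalizer ((X ⊓ normalizer (Y : Set G) : Subgroup G) : Set G) := fun h1 h2 =>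
    le_normalizer_inf (L := zpowers t) (zpowers_le.2 h1) (zpowers_le.2 (le_normalizer h2)) (mem_zpowers t)
  by_cases h2 : t ∈ normalizer (A : Set G)
  · obtain ⟨u, hu, u1, u2, u3⟩ := exists_comm ht (nn (nn (hH t) (h.normL h2)) tP) hv v2
    obtain ⟨u', hu', u1', u2', u3'⟩ := exists_comm ht
      (nn (nn (hH t) (h.normL' ((h.normA_iff tN).1 h2))) tP) hv' v2'
    exact not_field h h8 ht tN h2 tB ⟨u3, hu.1.1⟩ hu.1.2 (free u hu.2 hu.1.1 u2 u1) ⟨u3', hu'.1.1⟩ hu'.1.2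
      (free u' hu'.2 hu'.1.1 u2' u1')
  · obtain ⟨u, hu, u1, u2, u3⟩ := exists_comm ht (nn (hH t) tP) ⟨hv.1.1, hv.2⟩ v2
    exact not_swap h h8 ht tN h2 ⟨u3, hu.1⟩ (free u hu.2 hu.1 u2 u1)

end CfsgLib.CGT2
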