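import Mathlib
import Cfsg.Agent.Lib.CGT2.IIA2
import Cfsg.Agent.Lib.CGT2.Half
import Cfsg.Agent.Lib.BHS.PushMin
import Cfsg.Agent.Lib.Push.Orbit

/-!
Stellmacher's pushing up theorem for odd order automorphisms of a Sylow 2-subgroup.
-/

set_option autoImplicit false
set_option linter.unusedSectionVars false

namespace CfsgLib.CGT2

open Subgroup Cfsg CfsgLib.LAE CfsgLib.PLocal CfsgLib.Push CfsgLib.BHS CfsgLib.ZJ CfsgLib.SL2
  CfsgLib.Blocks CfsgLib.LocStr
open scoped commutatorElement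

universe u

variable {G : Type u} [Group G] [Finite G]

/-- The subgroup generated by the squares. -/
def sqs (Q : Subgroup G) : Subgroup G := closure {s | ∃ x ∈ Q, x * x = s}

theorem conjS_sqs_le (g : G) (Q : Subgroup G) : conjS g (sqs Q) ≤ sqs (conjS g Q) :=
  conjS_le_iff.2 ((closure_le _).2 (by
    rintro _ ⟨x, hx, rfl⟩
    refine mem_conjS.2 (Subgroup.subset_closure ⟨g * x * g⁻¹, conj_mem_conjS.2 hx, ?_⟩)
    simp only [inv_inv, mul_assoc, inv_mul_cancel_left]))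

namespace Ste

variable {F : Type} [Field F] [Fintype F] {B L W L' W' : Subgroup G}

theorem sqs_le (a : Atom F B L W) (b : Atom F B L' W') (nc : ¬ W ≤ centralizer (W' : Set G)) :
    sqs (cen B W) ≤ sqs (cen B W') := (closure_le _).2 (by
  rintro _ ⟨x, hx, rfl⟩
  obtain ⟨y, hy, e⟩ := half_sq a.elem a.W_le_Q (a.W_le.trans (b.le.trans b.normQ))
    (IIA.sup_eq b a a.W_le b.W_le nc) hx
  exact Subgroup.subset_closure ⟨y, hy, e.symm⟩)

theorem line_eq (a : Atom F B L W) (b : Atom F B L' W') (nc : ¬ W ≤ centralizer (W' : Set G)) :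
    cen W B = cen W' B := by
  rw [← a.comm_WX (IIA.sup_eq a b b.W_le a.W_le fun e => nc (le_centralizer_iff.1 e)),
    ← b.comm_WX (IIA.sup_eq b a a.W_le b.W_le nc), commutator_comm]

theorem core (a : Atom F B L W) {S N : Subgroup G} (hB : B ≤ S)
    (hN : N ≤ normalizer (B : Set G))
    (hodd : ∀ n ∈ N, ∃ k, Odd k ∧ n ^ k ∈ S ⊔ centralizer (S : Set G))
    (inter : ∀ s ∈ S, conjS s L ≠ L → W ⊓ conjS s W ≤ centralizer (L : Set G)) :
    ∃ Y ≤ B, Y ≠ ⊥ ∧ N ≤ normalizer (Y : Set G) ∧ eA L ≤ normalizer (Y : Set G) := by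
  have at' : ∀ n ∈ N, Nonempty (Atom F B (conjS n L) (conjS n W)) := fun n hn => by
    have := a.nonempty_conj n
    rwa [mem_normalizer_iff_conjS.1 (hN hn)] at this
  have hWB : ∀ n ∈ N, conjS n W ≤ B := fun n hn => (at' n hn).some.W_le
  have w0 : W ≠ ⊥ := fun e => a.not_W_le_C (e.le.trans bot_le)
  by_cases hc : ∀ n ∈ N, conjS n W ≤ centralizer (W : Set G)
  · refine ⟨_, nclIn_le_iff.2 hWB, fun e => w0 (le_bot_iff.1 ((le_nclIn W N).trans e.le)),
      le_normalizer_nclIn _ _, ?_⟩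
    rw [le_normalizer_iff_commutator_le_right, commutator_comm]
    exact ((commutator_mono (nclIn_le_iff.2 fun n hn => le_inf (hWB n hn) (hc n hn)) le_rfl).trans
      a.comm.le).trans (le_nclIn _ _)
  push Not at hc
  obtain ⟨g, hg, nc⟩ := hc
  obtain ⟨b⟩ := at' g hg
  have nc' : ¬ W ≤ centralizer (conjS g W : Set G) := fun e => nc (le_centralizer_iff.1 e)
  have s1 := IIA.sup_eq a b b.W_le a.W_le nc
  have cc : ∀ n ∈ N, conjS n (cen W B) = cen (conjS n W) B := fun n hn => by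
    rw [Push.conjS_cen', mem_normalizer_iff_conjS.1 (hN hn)]
  have cq : ∀ n ∈ N, conjS n (cen B W) = cen B (conjS n W) := fun n hn => by
    rw [Push.conjS_cen', mem_normalizer_iff_conjS.1 (hN hn)]
  have hΦ : sqs (cen B W) ≤ centralizer (eA L : Set G) := (closure_le _).2 (by
    rintro _ ⟨x, hx, rfl⟩
    exact a.sq_mem hx)
  by_cases h0 : cen W B ⊓ sqs (cen B W) = ⊥
  swap
  · have hY : nclIn (cen W B ⊓ sqs (cen B W)) N ≤ centralizer (eA L : Set G) :=
      nclIn_le_iff.2 fun n hn => by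
      obtain ⟨c⟩ := at' n hn
      have k := (conjS_mono (g := n) (inf_le_right : cen W B ⊓ sqs (cen B W) ≤ _)).trans
        (conjS_sqs_le n _)
      rw [cq n hn] at k
      by_cases h1 : conjS n W ≤ centralizer (W : Set G)
      swap
      · exact (k.trans (sqs_le c a h1)).trans hΦ
      by_cases h2 : conjS n W ≤ centralizer (conjS g W : Set G)
      swap
      · exact ((k.trans (sqs_le c b h2)).trans (sqs_le b a nc)).trans hΦ
      refine (conjS_mono inf_le_left).trans ?_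
      rw [cc n hn, ← c.comm_WB, ← s1, commutator_sup_of_le_centralizer (le_centralizer_iff.1 h2) ?_]
      · exact commutator_le.2 fun x hx y hy => a.commutator_mem ⟨c.W_le hx, h1 hx⟩ hy
      · exact inf_le_left.trans b.BW
    exact ⟨_, nclIn_le (inf_le_left.trans (inf_le_left.trans a.W_le)) hN,
      fun e => h0 (le_bot_iff.1 ((le_nclIn _ N).trans e.le)), le_normalizer_nclIn _ _,
      le_normalizer_of_le_centralizer (le_centralizer_iff.1 hY)⟩
  exfalso
  set K := N ⊓ normalizer (cen W B : Set G) with hK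
  have hgK : g ∈ K := ⟨hg, mem_normalizer_iff_conjS.2 ((cc g hg).trans (line_eq b a nc))⟩
  have hU : nclIn W K ≤ B := nclIn_le a.W_le (inf_le_left.trans hN)
  have u1 : ⁅nclIn W K, nclIn W K⁆ ≤ cen W B := by
    rw [← le_kl_iff le_normalizer]
    refine nclIn_le_iff.2 fun y hy => (le_kl_iff ((conjS_le_nclIn hy).trans le_normalizer)).2 ?_
    rw [← mem_normalizer_iff_conjS.1 hy.2, cc y hy.1, ← (at' y hy.1).some.comm_WB, commutator_comm]
    exact commutator_mono le_rfl hU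
  have u2 : ∀ u ∈ cen (nclIn W K) W, u * u = 1 := fun u hu => mem_bot.1 (h0.le
    ⟨IIA.sq_mem_nclIn a.elem u1 hu.1, Subgroup.subset_closure ⟨u, ⟨hU hu.1, hu.2⟩, rfl⟩⟩)
  have nU : conjS g (nclIn W K) = nclIn W K := mem_normalizer_iff_conjS.1 (le_normalizer_nclIn _ _ hgK)
  have e1 : conjS g (cen (nclIn W K) W) = cen (nclIn W K) (conjS g W) := by rw [Push.conjS_cen', nU]
  have hXU : conjS g W ≤ nclIn W K := conjS_le_nclIn hgK
  have hW1 : W ≤ cen (nclIn W K) W := le_inf (le_nclIn _ _) (elemAb_le_centralizer a.elem)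
  have e2 : g * g ∈ normalizer (cen (nclIn W K) W : Set G) := by
    refine mem_normalizer_of_conjS_le ?_
    by_contra e3
    have e4 : ¬ conjS (g * g) (cen (nclIn W K) W) ≤ cen (nclIn W K) (conjS g W) := fun e4 => by
      rw [conjS_mul, ← e1, conjS_le_conjS_iff] at e4
      exact nc (((conjS_mono hW1).trans e4).trans inf_le_right)
    obtain ⟨_, ⟨u, hu, rfl⟩, e5, e6⟩ := exists_not_mem_two e3 e4
    refine (IIA.mem_or b a.W_le s1 a.BW hXU hU hU u2
      (conj_mem_of_le_normalizer (le_normalizer_nclIn _ _) (mul_mem hgK hgK) hu.1) ?_).elim e5 e6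
    rw [conj_mul, u2 u hu, mul_one, mul_inv_cancel]
  obtain ⟨_, ⟨j, rfl⟩, hk⟩ := hodd g hg
  obtain ⟨s, hs, c, hc, e3⟩ := (mem_sup_iff_of_right_le_normalizer
    (centralizer_le_normalizer _)).1 hk
  have e4 : ∀ X ≤ B, conjS (g ^ (2 * j + 1)) X = conjS s X := fun X hX => by
    rw [e3, conjS_mul, mem_normalizer_iff_conjS.1 (centralizer_le_normalizer _
      (centralizer_anti (hX.trans hB) hc))]
  have e5 : conjS s L = L := by
    by_contra hne
    refine a.not_C_le (le_trans (le_inf inf_le_left ?_) (inter s hs hne))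
    rw [← mem_normalizer_iff_conjS.1 (pow_mem hgK (2 * j + 1)).2, e4 _ (inf_le_left.trans a.W_le)]
    exact conjS_mono inf_le_left
  have e6 : conjS s W = W := by rw [← a.wA_eq, conjS_wA, e5]
  refine nc' (((e4 W a.W_le).trans e6).ge.trans (le_trans ?_ (e1.le.trans inf_le_right)))
  rw [pow_succ', conjS_mul, conjS_le_conjS_iff, pow_mul, pow_two]
  exact (conjS_mono hW1).trans (mem_normalizer_iff_conjS.1 (pow_mem e2 j)).le

end Ste

theorem at_min {P S M : Subgroup G} (hP : IsCharP 2 P) (hS : IsSylowIn 2 S P) (h : MinOver S P M)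
    (hz : ¬ P ≤ normalizer (omegaZ 2 S : Set G))
    (hc : ∀ C, CharIn C (bau 2 S) → C ≠ ⊥ → ¬ P ≤ normalizer (C : Set G)) : AT M (bau 2 S) P := by
  have h1 := h.subgroupOf_top
  obtain ⟨T, rfl⟩ := hS.exists_sylow
  have hf := P.subtype_injective
  rw [subgroupOf, comap_map_eq_self_of_injective hf] at h1
  have k : ∀ C : Subgroup P, C.Normal → P ≤ normalizer (C.map P.subtype : Set G) := fun C _ => by
    have := map_le_normalizer_map P.subtype (le_normalizer_of_normal (H := C) (K := ⊤))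
    rwa [map_top_subtype] at this
  have k1 : ¬ (omegaZ 2 (T : Subgroup P)).Normal := fun e => hz (map_omegaZ hf _ ▸ k _ e)
  have k2 : ∀ C, CharIn C (bau 2 (T : Subgroup P)) → C ≠ ⊥ → ¬ C.Normal := fun C h1 h2 e =>
    hc _ (AtA.map_bau hf _ ▸ AtA.charIn_map hf h1) (by rwa [Ne, map_eq_bot_iff_of_injective _ hf])
      (k _ e)
  have h2 := AtA.at_map hf (AtA.at_top' (isCharP_iff.1 hP) T (M := M.comap P.subtype)
    (fun _ => (push_min (isCharP_iff.1 hP) (isSylowIn_top T) h1 (fun C a b c => k2 C ⟨a, c⟩ b)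
      k1).imp fun _ e => e.1) h1.le
    ((h1.eq_or_le (le_centralizer_omegaZ _) le_top).resolve_left fun e =>
      k1 (normal_of_top_le (e.ge.trans (centralizer_le_normalizer _))))
    (fun C a b => (h1.eq_or_le ((le_normalizer_bau _).trans (SetA.charIn_norm a)) le_top).resolve_left
      fun e => k2 C a b (normal_of_top_le e.ge)) h1.not_le)
  rwa [AtA.map_bau hf, range_subtype] at h2

/-- Stellmacher's pushing up theorem. -/
theorem stellmacher {P S M N : Subgroup G} (hP : IsCharP 2 P) (hS : IsSylowIn 2 S P)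
    (h : MinOver S P M) (hN : N ≤ normalizer (S : Set G)) (hSN : S ≤ N)
    (hodd : ∀ n ∈ N, ∃ k, Odd k ∧ n ^ k ∈ S ⊔ centralizer (S : Set G)) :
    ∃ Y ≤ S, Y ≠ ⊥ ∧ N ≤ normalizer (Y : Set G) ∧ P ≤ normalizer (Y : Set G) := by
  have h0 : S ≠ ⊥ := fun e => h.not_le_op hS.isPGroup (e.le.trans bot_le)
  by_cases hz : P ≤ normalizer (omegaZ 2 S : Set G)
  · exact ⟨_, omegaZ_le S, omegaZ_ne_bot hS.isPGroup h0, hN.trans
      (SetA.charIn_norm (charIn_omegaZ S)), hz⟩
  have hB := hN.trans (normalizer_le_normalizer_bau (p := 2) S)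
  by_cases hc : ∀ C, CharIn C (bau 2 S) → C ≠ ⊥ → ¬ P ≤ normalizer (C : Set G)
  swap
  · push Not at hc
    obtain ⟨C, c1, c2, c3⟩ := hc
    exact ⟨C, c1.1.trans (bau_le S), c2, hB.trans (SetA.charIn_norm c1), c3⟩
  have t := at_min hP hS h hz hc
  obtain ⟨L, hLP, hL⟩ := t.ex
  obtain ⟨F, _, _, ⟨a⟩⟩ := hL.1
  obtain ⟨Y, y1, y2, y3, y4⟩ := Ste.core a (bau_le S) hB hodd fun s hs hne => by
    rw [conjS_wA]
    exact t.inter _ _ hLP (conjS_le_of_le_of_mem hLP (hS.le hs)) hL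
      (hL.conj (h.le hs) (le_normalizer_bau S hs)) hne.symm
  refine ⟨Y, y1.trans (bau_le S), y2, y3, ?_⟩
  refine ((h.eq_or_le (le_sup_right : S ≤ eA L ⊔ S) (sup_le (a.EL.trans hLP) hS.le)).resolve_right
    fun e => hL.2 (a.E_sup_B.ge.trans ((sup_le_sup_left (bau_le S) _).trans e))).ge.trans
    (sup_le y4 (hSN.trans y3))

theorem stellmacher_aut (S : Sylow 2 G) (hirr : ∃! M : Subgroup G, IsCoatom M ∧ (S : Subgroup G) ≤ M)
    (hchar : centralizer (pCore 2 G : Set G) ≤ pCore 2 G) (A : Subgroup (MulAut (S : Subgroup G)))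
    (hA : Odd (Nat.card A)) : ∃ U : Subgroup G, U ≠ ⊥ ∧ U.Normal ∧ U ≤ S ∧
      ∀ a ∈ A, ∀ x : (S : Subgroup G), (x : G) ∈ U → ((a x : (S : Subgroup G)) : G) ∈ U := by
  obtain ⟨M, ⟨hM, hSM⟩, -⟩ := id hirr
  have hS := isSylowIn_top S
  by_cases hn : (S : Subgroup G).Normal
  · refine ⟨S, fun e => hM.1 (top_le_iff.1 (le_trans ?_ (hchar.trans
      (pCoreOf_top.ge.trans (hS.pCoreOf_le.trans hSM))))), hn, le_rfl, fun a _ x _ => (a x).2⟩
    rw [le_bot_iff.1 ((pCoreOf_top.ge.trans hS.pCoreOf_le).trans e.le)]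
    exact le_centralizer_iff.1 bot_le
  have hmin : MinOver (S : Subgroup G) ⊤ M := by
    refine minOver_top (isMinimalOver_iff.2 ?_) hM hSM
    obtain ⟨M', h1⟩ := existsUnique_isCoatom_iff.1 hirr
    exact ⟨(h1.nclIn_eq_iff hS).2 fun h' => hn (normal_of_top_le h'), M', h1⟩
  set f := MulAction.toPermHom G G with hf'
  have hf : Function.Injective f := MulAction.toPerm_injective
  let R : MulAut (S : Subgroup G) → Equiv.Perm G → Prop := fun a σ =>
    ∀ s : (S : Subgroup G), σ * f s * σ⁻¹ = f (a s)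
  have r1 : ∀ {a b σ τ}, R a σ → R b τ → R (a * b) (σ * τ) := fun {a b σ τ} h1 h2 s => by
    rw [MulAut.mul_apply, ← h1, ← h2]; group
  let K : Subgroup (Equiv.Perm G) :=
    { carrier := {σ | ∃ a ∈ A, R a σ}
      one_mem' := ⟨1, one_mem _, fun s => by simp⟩
      mul_mem' := fun ⟨a, ha, h1⟩ ⟨b, hb, h2⟩ => ⟨a * b, mul_mem ha hb, r1 h1 h2⟩
      inv_mem' := fun {σ} ⟨a, ha, h1⟩ => ⟨a⁻¹, inv_mem ha, fun s => by
        have := h1 (a⁻¹ s)
        rw [MulAut.apply_inv_self] at this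
        rw [← this]; group⟩ }
  have hK : K ≤ normalizer ((S : Subgroup G).map f : Set (Equiv.Perm G)) := fun σ ⟨a, _, h1⟩ =>
    mem_normalizer_of_conjS_le (conjS_le_iff_forall.2 (by
      rintro _ ⟨t, ht, rfl⟩
      exact ⟨_, (a ⟨t, ht⟩).2, (h1 ⟨t, ht⟩).symm⟩))
  have hp : ∀ {a σ}, R a σ → ∀ k : ℕ, R (a ^ k) (σ ^ k) := fun {a σ} h1 k => by
    induction k with
    | zero => exact fun s => by simp
    | succ k ih => rw [pow_succ, pow_succ]; exact r1 ih h1
  obtain ⟨Y, y1, y2, y3, y4⟩ := stellmacher ((isCharP_map_iff hf).2 (isCharP_top_iff.2 hchar))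
    (hS.map f) (hmin.map hf) (sup_le le_normalizer hK) le_sup_left fun n hn => by
      obtain ⟨s, hs, σ, ⟨a, ha, h1⟩, rfl⟩ := (mem_sup_iff_of_right_le_normalizer hK).1 hn
      have key : ∀ k : ℕ, (s * σ) ^ k * (σ ^ k)⁻¹ ∈ (S : Subgroup G).map f := fun k => by
        induction k with
        | zero => simp
        | succ k ih =>
          have : (s * σ) ^ (k + 1) * (σ ^ (k + 1))⁻¹ = s * (σ * ((s * σ) ^ k * (σ ^ k)⁻¹) * σ⁻¹) := by
            rw [pow_succ', pow_succ' σ]; group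
          exact this ▸ mul_mem hs (conj_mem_of_le_normalizer hK ⟨a, ha, h1⟩ ih)
      refine ⟨_, hA, ?_⟩
      rw [← inv_mul_cancel_right ((s * σ) ^ Nat.card A) (σ ^ Nat.card A)]
      refine mul_mem (mem_sup_left (key _)) (mem_sup_right ?_)
      rintro _ ⟨t, ht, rfl⟩
      have := hp h1 (Nat.card A) ⟨t, ht⟩
      rw [show a ^ Nat.card A = 1 from congrArg Subtype.val (pow_card_eq_one' (x := (⟨a, ha⟩ : A)))]
        at this
      exact (mul_inv_eq_iff_eq_mul.1 this).symm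
  refine ⟨Y.comap f, fun e => y2 ?_, normal_of_top_le ((le_comap_map f ⊤).trans
    (comap_le_normalizer_comap f y4)), fun x hx => (mem_map_iff_mem hf).1 (y1 hx),
    fun a ha x hx => ?_⟩
  · rw [← map_comap_eq_self (y1.trans (map_le_range f _)), e, Subgroup.map_bot]
  · obtain ⟨σ, hσ⟩ := exists_perm_of_mulAut (S : Subgroup G) a
    have h1 : R a σ := fun s => by
      rw [mul_inv_eq_iff_eq_mul]
      ext x
      exact hσ s x
    rw [mem_comap, ← h1]
    exact conj_mem_of_le_normalizer y3 (mem_sup_right ⟨a, ha, h1⟩) hx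

end CfsgLib.CGT2
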