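import Mathlib
import Cfsg.Agent.Lib.CGT2.PDefs
import Cfsg.Agent.Lib.CGT2.Ste
import Cfsg.Agent.Lib.CGT2.Near
import Cfsg.Agent.Lib.CGT2.Cfg

/-!
Rank one pushing up: `O²(H)` is a block (see `plans/CGT3.md`).
-/

set_option autoImplicit false
set_option linter.unusedSectionVars false

namespace CfsgLib.CGT2

open Subgroup Cfsg CfsgLib.LAE CfsgLib.PLocal CfsgLib.Push CfsgLib.BHS CfsgLib.ZJ CfsgLib.SL2
  CfsgLib.Blocks CfsgLib.LocStr
open Matrix MatrixGroups
open scoped commutatorElement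

/-- The properties of `Z₃` and `SL₂(2ⁿ)` that are used. -/
structure RK (X : Type*) [Group X] : Prop where
  simple : IsSimpleGroup X
  exp : ∀ x : X, x ^ 4 = 1 → x ^ 2 = 1
  um : ∀ S : Subgroup X, IsSylowIn 2 S ⊤ →
    ∃ M : Subgroup X, S ≤ M ∧ M ≠ ⊤ ∧ ∀ Y, S ≤ Y → Y ≠ ⊤ → Y ≤ M

theorem rk_three : RK (Multiplicative (ZMod 3)) := by
  have : Fact (Nat.Prime 3) := ⟨Nat.prime_three⟩
  have h : IsSimpleGroup (Multiplicative (ZMod 3)) := isSimpleGroup_of_prime_card (p := 3) (by simp)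
  refine ⟨h, by decide, fun S hS => ⟨⊥, ?_, bot_ne_top, fun Y _ h2 =>
    ((h.eq_bot_or_eq_top_of_normal Y inferInstance).resolve_right h2).le⟩⟩
  refine ((h.eq_bot_or_eq_top_of_normal S inferInstance).resolve_right fun e => ?_).le
  obtain ⟨k, hk⟩ := isPGroup_iff_forall_mem.1 hS.isPGroup (Multiplicative.ofAdd 1) (e ▸ mem_top _)
  have h1 := orderOf_dvd_of_pow_eq_one hk
  rw [orderOf_ofAdd_eq_addOrderOf, ZMod.addOrderOf_one] at h1
  exact absurd (Nat.prime_three.dvd_of_dvd_pow h1) (by decide)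

theorem rk_sl2 {F : Type} [Field F] [Fintype F] [CharP F 2] (h : 4 ≤ Fintype.card F) :
    RK SL(2, F) := by
  refine ⟨?_, fun x hx => ?_, fun S hS => ?_⟩
  · have := (sl2_qs h).2
    exact (pmEquiv (by exact_mod_cast CharP.cast_eq_zero F 2)).isSimpleGroup
  · obtain ⟨g, -, hg⟩ := (isSylowIn_upU (F := F) (p := 2)).exists_conj_le
      (Cf.pg_of_pow (x := x) (k := 2) hx) le_top
    have := pow_eq_one_of_mem_upU (p := 2) (hg (conj_mem_conjS.2 (mem_zpowers x)))
    rwa [conj_pow, conj_eq_one_iff] at this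
  · obtain ⟨g, -, hg⟩ := (isSylowIn_upU (F := F) (p := 2)).exists_conj hS
    rw [← hg]
    refine ⟨conjS g (borel F), conjS_mono upU_le_borel, fun e => borel_ne_top (F := F) ?_,
      fun Y h1 h2 => ?_⟩
    · rw [← conjS_inv_conjS g (borel F), e, conjS_top]
    · rw [← conjS_conjS_inv g Y]
      refine conjS_mono (uniqMax_upU.2.2 _ (conjS_le_iff.1 h1) (lt_top_iff_ne_top.2 fun e => h2 ?_))
      rw [← conjS_conjS_inv g Y, e, conjS_top]

theorem alt_four {n : ℕ} (h : 6 ≤ n) :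
    ∃ x : alternatingGroup (Fin n), x ^ 4 = 1 ∧ x ^ 2 ≠ 1 := by
  let e := (Fin.castLEEmb h).toEquivRange
  let s : Equiv.Perm (Fin 6) := Equiv.swap 0 1 * Equiv.swap 1 2 * Equiv.swap 2 3 * Equiv.swap 4 5
  refine ⟨⟨Equiv.Perm.extendDomainHom e s, ?_⟩, Subtype.ext ?_, fun h1 => ?_⟩
  · rw [Equiv.Perm.mem_alternatingGroup, Equiv.Perm.extendDomainHom_apply,
      Equiv.Perm.sign_extendDomain]
    decide
  · rw [SubgroupClass.coe_pow, ← map_pow, show s ^ 4 = 1 by decide, map_one]; rfl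
  · have h2 := congrArg Subtype.val h1
    rw [SubgroupClass.coe_pow, ← map_pow, OneMemClass.coe_one,
      ← map_one (Equiv.Perm.extendDomainHom e)] at h2
    exact absurd (Equiv.Perm.extendDomainHom_injective e h2) (by decide)

variable {G : Type*} [Group G] [Finite G]

theorem symB_map {G' : Type*} [Group G'] [Finite G'] {f : G →* G'} (hf : Function.Injective f)
    {E : Subgroup G} {m : ℕ} (b : Blk0 2 E) (s : SymB m E) :
    Blk0 2 (E.map f) ∧ SymB m (E.map f) := by
  obtain ⟨D⟩ := s.nat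
  have e1 : WP 2 (E.map f) = (WP 2 E).map f := by rw [map_omegaZ hf, map_pCoreOf hf]
  have e2 : ZE 2 (E.map f) = (ZE 2 E).map f := by rw [map_cen hf, ← e1]
  have i := Function.leftInverse_invFun hf
  let D' : PermData (Fin (2 * m + 1)) (alternatingGroup (Fin (2 * m + 1))) (E.map f)
      ((WP 2 E).map f) ((ZE 2 E).map f) :=
    { ψ := fun x => D.ψ (Function.invFun f x)
      ρ := fun x => D.ρ (Function.invFun f x)
      le := map_mono D.le
      norm := map_le_normalizer_map f D.norm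
      ψ_mul := by
        rintro _ ⟨x, hx, rfl⟩ _ ⟨y, hy, rfl⟩
        rw [← map_mul, i, i, i, D.ψ_mul x hx y hy]
      ψ_sum := by
        rintro _ ⟨x, hx, rfl⟩
        rw [i]; exact D.ψ_sum x hx
      ψ_surj := fun v hv => by
        obtain ⟨x, hx, e⟩ := D.ψ_surj v hv
        exact ⟨f x, mem_map_of_mem f hx, by rw [i, e]⟩
      ψ_eq_zero := by
        rintro _ ⟨x, hx, rfl⟩
        rw [i, mem_map_iff_mem hf, D.ψ_eq_zero x hx]
      ρ_mul := by
        rintro _ ⟨x, hx, rfl⟩ _ ⟨y, hy, rfl⟩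
        rw [← map_mul, i, i, i, D.ρ_mul x hx y hy]
      ρ_mem := by
        rintro _ ⟨x, hx, rfl⟩
        rw [i]; exact D.ρ_mem x hx
      ρ_surj := fun v hv => by
        obtain ⟨x, hx, e⟩ := D.ρ_surj v hv
        exact ⟨f x, mem_map_of_mem f hx, by rw [i, e]⟩
      ψ_conj := by
        rintro _ ⟨x, hx, rfl⟩ _ ⟨y, hy, rfl⟩ j
        rw [← map_inv, ← map_mul, ← map_mul, i, i, i, D.ψ_conj x hx y hy] }
  have h3 : 2 < Fintype.card (Fin (2 * m + 1)) := by
    have := s.pos
    rw [Fintype.card_fin]; omega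
  have k : D'.ker = pCoreOf 2 (E.map f) := by
    rw [← map_pCoreOf hf, ← b.ker, ← permData_ker h3 D]
    ext x
    rw [D'.mem_ker]
    refine ⟨?_, ?_⟩
    · rintro ⟨⟨y, hy, rfl⟩, h⟩
      exact mem_map_of_mem f (D.mem_ker.2 ⟨hy, i y ▸ h⟩)
    · rintro ⟨y, hy, rfl⟩
      exact ⟨mem_map_of_mem f (D.ker_le hy), (congrArg D.ρ (i y)).trans (D.mem_ker.1 hy).2⟩
  refine ⟨⟨by rw [← map_pResOf_of_injective hf, b.res],
    by rw [← map_pCoreOf hf, ← map_commutator, b.core], ?_, ?_, ?_⟩, s.pos, ?_, ?_⟩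
  · rw [e1, e2]; exact permData_ne h3 D'
  · rw [e1, e2]
    exact fun Y a b c => permData_irr (by rw [Fintype.card_fin]; exact odd_two_mul_add_one m) h3 D' a b c
  · rw [e1, e2, ← permData_ker h3 D', k]
  · rw [e1, e2]; exact ⟨D'⟩
  · rw [e1, ← map_pCoreOf hf, s.eq]

section
variable {K : Subgroup G} {X : Type*} [Group X] {f : K →* X} (hf : Function.Surjective f)
  (hk : f.ker = pCore 2 K) (hX : RK X)
include hf hk hX

theorem RK.normal_cases {N : Subgroup G} (hN : N ≤ K) (hn : K ≤ normalizer (N : Set G)) :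
    N ≤ pCoreOf 2 K ∨ N ⊔ pCoreOf 2 K = K := by
  have h1 : (N.subgroupOf K).Normal := (normal_subgroupOf_iff_le_normalizer hN).2 hn
  rcases hX.simple.eq_bot_or_eq_top_of_normal _ (h1.map f hf) with e | e
  · rw [Subgroup.map_eq_bot_iff, hk] at e
    exact Or.inl fun x hx => mem_pCore_iff.1 (e (show (⟨x, hN hx⟩ : K) ∈ _ from hx))
  · have := congrArg (fun Y => (Subgroup.comap f Y).map K.subtype) e
    simp only [comap_map_eq, hk, comap_top, map_top_subtype, Subgroup.map_sup,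
      map_subgroupOf_eq_of_le hN] at this
    exact Or.inr this

theorem RK.uniqMax {S : Subgroup G} (hS : IsSylowIn 2 S K) : ∃ M, UniqMax S K M := by
  have h1 := (isSylowIn_top hS.toSylow).map f
  rw [map_top_of_surjective _ hf] at h1
  obtain ⟨M, a, b, c⟩ := hX.um _ h1
  refine ⟨(M.comap f).map K.subtype, ?_, (map_subtype_le _).lt_of_ne fun e => b ?_, fun Y h2 h3 => ?_⟩
  · rw [← map_subgroupOf_eq_of_le hS.le]
    exact map_mono (map_le_iff_le_comap.1 a)
  · rw [← map_comap_eq_self_of_surjective hf M, ← map_top_of_surjective f hf]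
    congr 1
    exact map_injective K.subtype_injective (e.trans (map_top_subtype K).symm)
  · rw [← map_subgroupOf_eq_of_le h3.le]
    refine map_mono (map_le_iff_le_comap.1 (c _ (map_mono (comap_mono h2)) fun e => h3.ne ?_))
    have := congrArg (fun Y => (Subgroup.comap f Y).map K.subtype) e
    simp only [comap_map_eq, hk, comap_top, map_top_subtype, Subgroup.map_sup,
      map_subgroupOf_eq_of_le h3.le] at this
    exact (sup_of_le_left (hS.pCoreOf_le.trans h2)).symm.trans this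

end

namespace PH

variable {H T K : Subgroup G} (h : PH H T K)
include h

theorem K_le : K ≤ H := h.res ▸ pResOf_le H

theorem normK : H ≤ normalizer (K : Set G) := h.res ▸ le_normalizer_pResOf H

theorem sup : K ⊔ T = H := h.res ▸ h.syl.pResOf_sup

theorem resK : pResOf 2 K = K := by rw [← h.res, pResOf_pResOf]

variable {g : G} (hg : g ∈ normalizer (T : Set G)) (hg' : g ∉ normalizer (K : Set G))
include hg hg'

theorem ne_bot : T ≠ ⊥ := fun e => hg' <| by
  have h1 : H ≤ ⊥ := (h.char.le_pCoreOf le_rfl fun x _ y hy => by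
    rw [mem_bot.1 ((h.syl.pCoreOf_le.trans e.le) hy), one_mul, mul_one]).trans (h.syl.pCoreOf_le.trans e.le)
  rw [le_bot_iff.1 (h.K_le.trans h1), normalizer_eq_top]
  trivial

theorem not_le {C : Subgroup G} (hC : CharIn C T) (h0 : C ≠ ⊥) : ¬ H ≤ normalizer (C : Set G) :=
  fun e => hg' (h.uniq C (h.syl.isPGroup.to_le hC.1) h0 e (SetA.charIn_norm hC hg))

variable {X : Type*} [Group X] {f : K →* X} (hf : Function.Surjective f)
  (hk : f.ker = pCore 2 K) (hX : RK X)
include hf hk hX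

theorem minOver : ∃ M, MinOver T H M := by
  have hS := h.syl.inf_of_normal h.K_le h.normK
  obtain ⟨M, m1, m2, m3⟩ := hX.uniqMax hf hk hS
  have nT := h.syl.le.trans h.normK
  have n1 : T ≤ normalizer (M : Set G) := fun t ht => mem_normalizer_of_conjS_le <| by
    have e1 := mem_normalizer_iff_conjS.1 (nT ht)
    refine m3 _ ?_ (e1 ▸ (conjS_mono m2.le).lt_of_ne fun e => m2.ne (conjS_injective t e))
    rw [← mem_normalizer_iff_conjS.1 (le_normalizer_inf le_normalizer nT ht)]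
    exact conjS_mono m1
  have key : ∀ Y, T ≤ Y → Y < H → Y ⊓ K ≤ M ∧ Y = Y ⊓ K ⊔ T := fun Y h1 h2 =>
    ⟨m3 _ (inf_le_inf_right _ h1) (inf_le_right.lt_of_ne fun e => h2.not_ge
      (h.sup.ge.trans (sup_le (e.ge.trans inf_le_left) h1))),
      by rw [← inf_sup_of_le_of_le_normalizer' nT h1, h.sup, inf_of_le_left h2.le]⟩
  refine ⟨M ⊔ T, le_sup_right, (sup_le (m2.le.trans h.K_le) h.syl.le).lt_of_ne fun e => m2.ne ?_,
    fun Y h1 h2 => (key Y h1 h2).2.le.trans (sup_le_sup_right (key Y h1 h2).1 _),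
    fun N h1 h2 h3 => ?_⟩
  · have := inf_sup_of_le_of_le_normalizer n1 m2.le
    rw [e, inf_of_le_left h.K_le, inf_comm, sup_of_le_left m1] at this
    exact this.symm
  · by_contra h4
    obtain ⟨k1, k2⟩ := key N h1 (h2.lt_of_ne fun e => h4 e.ge)
    rcases hX.normal_cases hf hk inf_le_right
      (le_normalizer_inf (h.K_le.trans h3) le_normalizer) with e | e
    · refine h.not_le hg hg' (charIn_self T) (h.ne_bot hg hg') ?_
      rwa [k2, sup_of_le_right (e.trans (hS.pCoreOf_le.trans inf_le_left))] at h3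
    · exact m2.not_ge (e.ge.trans (sup_le k1 (hS.pCoreOf_le.trans m1)))

theorem cases : (∃ L, IsAtom (bau 2 T) L ∧ eA L = K) ∨ (Blk0 2 K ∧ SymB 2 K) := by
  obtain ⟨M, hM⟩ := h.minOver hg hg' hf hk hX
  have h1 := hM.subgroupOf_top
  have nc := fun C => h.not_le hg hg' (C := C)
  have h0 := h.ne_bot hg hg'
  obtain ⟨T, rfl⟩ := h.syl.exists_sylow
  have hi := H.subtype_injective
  have hP := isCharP_iff.1 h.char
  rw [subgroupOf, comap_map_eq_self_of_injective hi] at h1
  have k : ∀ C : Subgroup H, C.Normal → H ≤ normalizer (C.map H.subtype : Set G) := fun C _ => by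
    have := map_le_normalizer_map H.subtype (le_normalizer_of_normal (H := C) (K := ⊤))
    rwa [map_top_subtype] at this
  have k1 : ¬ (omegaZ 2 (T : Subgroup H)).Normal := fun e =>
    nc _ (charIn_omegaZ _) (omegaZ_ne_bot h.syl.isPGroup h0) (map_omegaZ hi _ ▸ k _ e)
  have k2 : ∀ C, CharIn C (bau 2 (T : Subgroup H)) → C ≠ ⊥ → ¬ C.Normal := fun C h1 h2 e =>
    nc _ (AtA.charIn_map hi (h1.trans (charIn_bau _)))
      (by rwa [Ne, map_eq_bot_iff_of_injective _ hi]) (k _ e)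
  obtain ⟨𝓑, hB, -⟩ := push_min hP (isSylowIn_top T) h1 (fun C a b c => k2 C ⟨a, c⟩ b) k1
  have c1 : cStarOf 2 (T : Subgroup H) ≤ M.subgroupOf H := sup_le
    ((h1.eq_or_le (le_centralizer_omegaZ _) le_top).resolve_left fun e =>
      k1 (normal_of_top_le (e.ge.trans (centralizer_le_normalizer _))))
    (iSup_le fun C => (h1.eq_or_le ((le_normalizer_bau _).trans
      (SetA.charIn_norm ⟨C.2.1, C.2.2.2⟩)) le_top).resolve_left
        fun e => k2 C ⟨C.2.1, C.2.2.2⟩ C.2.2.1 (normal_of_top_le e.ge))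
  have c2 : ¬ sSup 𝓑 ≤ M.subgroupOf H := fun e => h1.not_le (hB.2.2.2.1.ge.trans (sup_le c1 e))
  have eK : (pResOf 2 (⊤ : Subgroup H)).map H.subtype = K := by
    rw [map_pResOf_of_injective hi, map_top_subtype, h.res]
  have c3 : pResOf 2 (⊤ : Subgroup H) ≤ sSup 𝓑 :=
    h1.pResOf_le_of_not_le T.isPGroup' le_top (fun x _ => mem_normalizer_of_conjS_le (by
      rw [conjS, map_le_iff_le_comap]
      exact sSup_le fun E' hE' => map_le_iff_le_comap.1 (le_sSup (hB.2.1 _ hE' x)))) c2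
  obtain ⟨E, hE⟩ : 𝓑.Nonempty := Set.nonempty_iff_ne_empty.2 fun e => c2 (by simp [e])
  have b := blk_of_isBaumannBlock (hB.1 E hE)
  have c4 : K ≤ normalizer (E.map H.subtype : Set G) := by
    rw [← eK]
    refine map_le_normalizer_map _ (c3.trans (sSup_le fun E' hE' => ?_))
    by_cases e : E' = E
    · exact e ▸ le_normalizer
    · exact (comm_bot_iff.1 (hB.2.2.1 _ hE' _ hE e)).trans (centralizer_le_normalizer _)
  have c5 : E.map H.subtype ≤ K := eK ▸ map_mono (b.res.ge.trans (pResOf_mono le_top))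
  have c6 : E.map H.subtype = K := by
    rcases hX.normal_cases hf hk c5 c4 with e | e
    · exact absurd ((isPGroup_map_iff hi).1 ((isPGroup_pCoreOf K).to_le e)) b.not_pg
    · have := pResOf_sup_of_isPGroup (isPGroup_pCoreOf (p := 2) K) ((pCoreOf_le K).trans c4)
      rw [sup_comm, e, h.resK] at this
      exact le_antisymm c5 (this.le.trans (pResOf_le _))
  have at' : ∀ L, IsAtom (bau 2 (T : Subgroup H)) L → eA L = E →
      ∃ L, IsAtom (bau 2 ((T : Subgroup H).map H.subtype)) L ∧ eA L = K := fun L a e =>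
    ⟨L.map H.subtype, AtA.map_bau hi _ ▸ (isAtom_map_iff hi).2 a, 
      (map_pResOf_of_injective hi L).symm.trans ((congrArg _ e).trans c6)⟩
  rcases b.typ with ⟨F, _, _, l⟩ | ⟨-, m, s⟩
  · exact Or.inl (at' _ (atom_of_linB (isSylowIn_top T) hP b l).1
      (atom_of_linB (isSylowIn_top T) hP b l).2)
  have s' := c6 ▸ symB_map hi b.toBlk0 s
  rcases (by have := s.pos; omega : m = 1 ∨ m = 2 ∨ 3 ≤ m) with rfl | rfl | h3
  · obtain ⟨L, a, e, -⟩ := sym_atoms (isSylowIn_top T) hP b s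
    exact Or.inl (at' _ (a 0) (by rw [← e, iSup_unique]; rfl))
  · exact Or.inr s'
  exfalso
  obtain ⟨D⟩ := s'.2.nat
  obtain ⟨x, x4, x2⟩ := alt_four (n := 2 * m + 1) (by omega)
  obtain ⟨y, hy, e⟩ := D.ρ_surj x x.2
  have kk : ∀ n, D.ρ y ^ n = 1 ↔ f ⟨y, hy⟩ ^ n = 1 := fun n => by
    rw [← map_pow, ← MonoidHom.mem_ker, hk, mem_pCore_iff, ← s'.1.ker,
      ← permData_ker (by rw [Fintype.card_fin]; omega) D, D.mem_ker, ← D.ρ_pow hy]
    exact (and_iff_right (pow_mem hy n)).symm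
  rw [e] at kk
  exact x2 (Subtype.ext ((kk 2).2 (hX.exp _ ((kk 4).1 (congrArg Subtype.val x4)))))

end PH

end CfsgLib.CGT2
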