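import Mathlib
import Cfsg.Agent.Lib.CGT2.PSet
import Cfsg.Agent.Lib.CGT2.CaseI
import Cfsg.Agent.Lib.CGT2.PEqB
import Cfsg.Agent.Lib.CGT2.PA5

/-!
Rank one pushing up: the case of a linear block, and the theorem (see `plans/CGT3.md`).
-/

set_option autoImplicit false
set_option linter.unusedSectionVars false

namespace CfsgLib.CGT2

open Subgroup Cfsg CfsgLib.LAE CfsgLib.PLocal CfsgLib.Push CfsgLib.BHS CfsgLib.ZJ CfsgLib.SL2
  CfsgLib.Blocks CfsgLib.LocStr
open scoped commutatorElement

variable {G : Type*} [Group G] [Finite G]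

theorem norm_nclIn {X T L : Subgroup G} (h1 : T ≤ normalizer (L : Set G))
    (h2 : L ≤ normalizer (X : Set G)) : L ≤ normalizer (nclIn X T : Set G) := fun l hl =>
  mem_normalizer_of_conjS_le <| conjS_le_iff.2 <| nclIn_le_iff.2 fun t ht => conjS_le_iff.1 <| by
    rw [← conjS_mul, show l * t = t * (t⁻¹ * l * t) by group, conjS_mul,
      mem_normalizer_iff_conjS.1 (h2 (Cf.cjm' (h1 ht) hl))]
    exact conjS_le_nclIn ht

theorem Half.exists_cfg2 {F F' : Type} [Field F] [Fintype F] [Field F'] [Fintype F']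
    {B L W A L' W' A' : Subgroup G} (loc : Loc G) (H : Half F B L W A A')
    (H' : Half F' B L' W' A' A) (triv : cen A L ⊓ cen A' L' = ⊥) (h4 : 4 ≤ Fintype.card F)
    (nL : normalizer (A : Set G) ≤ normalizer (L : Set G))
    (nL' : normalizer (A' : Set G) ≤ normalizer (L' : Set G)) (hc : centralizer (A : Set G) ≤ A) :
    ∃ R, Nonempty (Cfg2 F F' R B L W A L' W' A') := by
  obtain ⟨R, hR, hBR⟩ := exists_isSylowIn_ge H.a.two (le_normalizer (H := B))
  have fa : cen R W ≤ A := fun x hx => hc (H.faith H' triv (by omega) nL nL' (hR.le hx.1)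
    (hR.isPGroup.to_le (zpowers_le.2 hx.1)) hx.2)
  have hJ := H.J_eq_of h4 hR.isPGroup hBR hR.le (inf_le_right.trans nL) fa
  exact ⟨R, ⟨{ toHalf := H, loc := loc, J_eq := hJ, four := h4, normL := nL
               syl := sylow_top_of_norm hR (hJ ▸ normalizer_le_normalizer_thompsonSubgroupOf R)
               faith := fa, a' := H'.a, A'_eq := H'.A_eq, triv := triv, normL' := nL' }⟩⟩

theorem PH.atom {H T K L W : Subgroup G} (h : PH H T K) {F : Type} [Field F] [Fintype F]
    (a : Atom F (bau 2 T) L W) (e : eA L = K) {g : G} (hg : g ∈ normalizer (T : Set G))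
    (hg' : g ∉ normalizer (K : Set G)) : SectionalPRankLE 2 4 G := by
  subst e
  have nT := h.syl.le.trans h.normK
  have nW : normalizer (eA L : Set G) ≤ normalizer (W : Set G) := fun _ => a.norm_W
  have WT : W ≤ T := a.W_le.trans (bau_le T)
  have W0 : W ≠ ⊥ := fun e => a.not_W_le_C (e.le.trans bot_le)
  have hS : ∀ S : Subgroup G, IsPGroup 2 S → pCoreOf 2 H ≤ S → S ≤ normalizer (eA L : Set G) →
      S ≤ centralizer (W : Set G) → S ≤ pCoreOf 2 H := fun S h1 h2 h3 h4 =>
    h.hsyl S h1 h2 h3 (by rw [commutator_comm, a.core]; exact a.comm_le_of_cen h3 h4)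
  have cO : pCoreOf 2 H ≤ centralizer (W : Set G) := a.WE_eq ▸ a.blk0.le_cen_WE
    (isPGroup_pCoreOf H) ((pCoreOf_le H).trans h.normK) (h.K_le.trans (le_normalizer_pCoreOf H))
  obtain ⟨n, hn, nc⟩ : ∃ n ∈ normalizer (T : Set G), ¬ W ≤ centralizer (conjS n W : Set G) := by
    by_contra! hc
    have h1 : nclIn W (normalizer (T : Set G)) ≤ T := nclIn_le WT le_rfl
    have h2 := le_nclIn W (normalizer (T : Set G))
    refine hg' (h.uniq _ (h.syl.isPGroup.to_le h1) (fun e => W0 (le_bot_iff.1 (h2.trans e.le)))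
      (h.sup.ge.trans (sup_le ?_ (le_normalizer.trans (le_normalizer_nclIn _ _))))
      (le_normalizer_nclIn _ _ hg))
    exact le_normalizer_iff_commutator_le_right.2 <| (a.comm_le_of_cen (h1.trans nT)
      (nclIn_le_iff.2 fun n hn => le_centralizer_iff.1 (hc n hn))).trans h2
  have eB := mem_normalizer_iff_conjS.1 (normalizer_le_normalizer_bau (p := 2) T hn)
  obtain ⟨a'⟩ : Nonempty (Atom F (bau 2 T) (conjS n L) (conjS n W)) := by
    have := a.nonempty_conj n
    rwa [eB] at this
  have tL : T ≤ normalizer (L : Set G) :=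
    (le_normalizer_sup nT (le_normalizer_bau T)).trans_eq (by rw [a.E_sup_B])
  have tL' : T ≤ normalizer (conjS n L : Set G) := by
    rw [← conjS_normalizer, ← mem_normalizer_iff_conjS.1 hn]
    exact conjS_mono tL
  obtain ⟨-, ⟨H1⟩, ⟨H2⟩, triv, -, hr⟩ := exists_half a a' nc fun X h1 h2 h3 => by
    by_contra h0
    have h4 := h.uniq (nclIn X T) (h.syl.isPGroup.to_le (nclIn_le_of_le (h1.trans (bau_le T))))
      (fun e => h0 (le_bot_iff.1 ((le_nclIn X T).trans e.le)))
      (h.sup.ge.trans (sup_le (a.EL.trans (norm_nclIn tL h2)) (le_normalizer_nclIn _ _)))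
    exact nc ((le_pCoreOf a.pgW (a.W_le.trans a'.le) (((norm_nclIn tL' h3).trans h4).trans nW)).trans
      (a'.core_eq.le.trans inf_le_right))
  have eA' : conjS n (cen (bau 2 T) W) = cen (bau 2 T) (conjS n W) := by rw [Push.conjS_cen', eB]
  have tA : T ≤ normalizer (cen (bau 2 T) W : Set G) :=
    le_normalizer_inf (le_normalizer_bau T) (le_normalizer_centralizer (nT.trans nW))
  generalize cen (bau 2 T) W = A at H1 H2 triv hr eA' tA
  generalize cen (bau 2 T) (conjS n W) = A' at H1 H2 triv eA'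
  have pA := elemAb_isPGroup H1.elemA
  have nE : normalizer (A : Set G) ≤ normalizer (eA L : Set G) := h.uniq A pA H1.A_ne_bot
    (h.sup.ge.trans (sup_le (a.EL.trans H1.normA) tA))
  have nE' : normalizer (A' : Set G) ≤ normalizer (eA (conjS n L) : Set G) := by
    rw [← eA', ← conjS_eA, ← conjS_normalizer, ← conjS_normalizer]
    exact conjS_mono nE
  have OA : pCoreOf 2 H ≤ A := fun x hx => by
    have xT := h.syl.pCoreOf_le hx
    refine H1.cen_of_bau rfl ⟨xT, ?_⟩
    by_cases h2 : 2 < Fintype.card F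
    · exact H1.faith H2 triv h2 (H1.normL_of h2 nE) (H2.normL_of h2 nE') (le_normalizer_bau T xT)
        (Cf.pg_zpowers h.syl.isPGroup xT) (cO hx)
    refine H1.mem_cenA (cO hx) fun z hz => ?_
    by_cases z1 : z = 1
    · rw [z1, one_mul, mul_one]
    exact (eq_mul_inv_iff_mul_eq.1 ((Sect.two_cases (by omega) hz z1 (Cf.cjm (H1.norm_Z
      ⟨tA xT, tL xT⟩) hz)).resolve_left fun e => z1 (conj_eq_one_iff.1 e)).symm)
  have cA : centralizer (A : Set G) ≤ A := by
    obtain ⟨R, hR⟩ := exists_isSylowIn 2 (normalizer (A : Set G))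
    have AR : A ≤ R := hR.le_of_normal pA le_normalizer le_rfl
    refine le_trans (le_inf (centralizer_le_normalizer _) le_rfl)
      ((h.loc A pA H1.A_ne_bot).inf_centralizer_le_of_sylow hR hR.le ?_)
    exact (hS _ hR.isPGroup.to_inf_left (OA.trans (le_inf AR (elemAb_le_centralizer H1.elemA)))
      (inf_le_left.trans (hR.le.trans nE))
      (inf_le_right.trans (LAE.centralizer_anti H1.W_le))).trans OA
  by_cases h4 : 4 ≤ Fintype.card F
  swap
  · obtain ⟨S, h1, h2⟩ := exists_isSylowIn_ge pA le_top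
    refine sr_of_self h1 h2 H1.elemA ?_ (inf_le_right.trans cA)
    obtain ⟨k, k1, k2⟩ := a.exists_card
    have : Fintype.card F = 2 := by
      rcases k with _ | _ | k
      · omega
      · exact k2
      · rw [k2, pow_add, pow_add] at h4
        have := Nat.two_pow_pos k
        omega
    rw [H1.card_A, this]
    omega
  obtain ⟨R, ⟨c⟩⟩ := H1.exists_cfg2 h.loc H2 triv h4 (H1.normL_of (by omega) nE)
    (H2.normL_of (by omega) nE') cA
  by_cases h8 : 8 ≤ Nat.card (A ⊓ A' : Subgroup G)
  · exfalso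
    have h1 := (c.eq_B' h8 ▸ c.syl).mono le_normalizer le_top
    have h2 := relIndex_dvd_of_le_left (normalizer (bau 2 T : Set G)) H1.B_normA
    have h3 := c.relIndex_K
    have h5 : (normalizer (A : Set G)).relIndex (normalizer (bau 2 T : Set G)) = 1 := by
      have := Sect.relIndex_ne (normalizer (A : Set G)) (normalizer (bau 2 T : Set G))
      by_contra h6
      have h7 : (normalizer (A : Set G)).relIndex (normalizer (bau 2 T : Set G)) = 2 := by omega
      exact h1.not_dvd_relIndex (h7.symm.dvd.trans h2)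
    exact H1.ne ((mem_normalizer_iff_conjS.1 (relIndex_eq_one.1 h5
      (mem_normalizer_iff_conjS.2 eB))).symm.trans eA')
  · rw [H1.card_D] at h8
    have h0 : 0 < Nat.card (cen A L) := Nat.card_pos
    have e : Nat.card (cen A L) = 1 := by nlinarith
    rw [e] at h8
    obtain ⟨k, k1, k2⟩ := a.exists_card
    refine c.toCfg1.sr ?_ (card_eq_one.1 e)
    rcases k with _ | _ | _ | k <;> omega

theorem PH.main {H T K : Subgroup G} (h : PH H T K) {X : Type*} [Group X] {f : K →* X}
    (hf : Function.Surjective f) (hk : f.ker = pCore 2 K) (hX : RK X) :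
    normalizer (T : Set G) ≤ normalizer (K : Set G) ∨ SectionalPRankLE 2 4 G := by
  refine or_iff_not_imp_left.2 fun hn => ?_
  obtain ⟨g, hg, hg'⟩ := SetLike.not_le_iff_exists.1 hn
  rcases h.cases hg hg' hf hk hX with ⟨L, ⟨F, _, _, ⟨a⟩⟩, e⟩ | ⟨b, s⟩
  exacts [h.atom a e hg hg', h.sym b s hg hg']

end CfsgLib.CGT2
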